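import Mathlib
import Groth.Agent.ModModel.Basic

/-!
A map of free modules over a polynomial ring with cokernel flat over the coefficients has a
finitely generated kernel; hence so has an endomorphism of a finitely presented module with flat
cokernel.
-/

namespace Groth.Agent.FlatSlice

open TensorProduct

universe u

section Poly

variable {n m r : ℕ}

/-- The free module. -/
abbrev PF (R : Type u) [CommRing R] (n r : ℕ) := Fin r → MvPolynomial (Fin n) R

variable {A : Type u} [CommRing A] (R : Type u) [CommRing R] [Algebra A R]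

/-- Base change of free modules over a polynomial ring. -/
noncomputable def pfEquiv (r : ℕ) : R ⊗[A] PF A n r ≃ₗ[R] PF R n r :=
  (TensorProduct.piRight A R R fun _ : Fin r => MvPolynomial (Fin n) A).trans
    (LinearEquiv.piCongrRight fun _ =>
      (MvPolynomial.algebraTensorAlgEquiv (σ := Fin n) A R).toLinearEquiv)

variable (A) in
/-- Coefficientwise map. -/
noncomputable def pfMap (v : PF A n r) : PF R n r :=
  fun i => MvPolynomial.map (algebraMap A R) (v i)

theorem pfEquiv_tmul (c : R) (v : PF A n r) : pfEquiv R r (c ⊗ₜ[A] v) = c • pfMap A R v := by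
  ext i : 1
  simp [pfEquiv, pfMap, MvPolynomial.algebraTensorAlgEquiv_tmul]

/-- The map given by a family of vectors. -/
noncomputable def mat (ψ : Fin m → PF A n r) :
    PF A n m →ₗ[MvPolynomial (Fin n) A] PF A n r :=
  Fintype.linearCombination (MvPolynomial (Fin n) A) ψ

theorem pfMap_mat (ψ : Fin m → PF A n r) (v : PF A n m) :
    pfMap A R (mat ψ v) = mat (fun j => pfMap A R (ψ j)) (pfMap A R v) := by
  ext i : 1
  simp [pfMap, mat, Fintype.linearCombination_apply, Finset.sum_apply]

theorem pfEquiv_mat (ψ : Fin m → PF A n r) (z : R ⊗[A] PF A n m) :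
    pfEquiv R r (LinearMap.lTensor R ((mat ψ).restrictScalars A) z) =
      mat (fun j => pfMap A R (ψ j)) (pfEquiv R m z) := by
  induction z with
  | zero => simp
  | tmul c v =>
    rw [LinearMap.lTensor_tmul, pfEquiv_tmul, pfEquiv_tmul, LinearMap.map_smul_of_tower]
    exact congrArg (c • ·) (pfMap_mat R ψ v)
  | add x y hx hy => simp only [map_add, hx, hy]

/-- The cokernel commutes with base change. -/
theorem flat_coker_iff (ψ : Fin m → PF A n r) :
    Module.Flat R (R ⊗[A] (PF A n r ⧸ LinearMap.range (mat ψ))) ↔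
      Module.Flat R (PF R n r ⧸ LinearMap.range (mat fun j => pfMap A R (ψ j))) := by
  let π : PF A n r →ₗ[A] PF A n r ⧸ LinearMap.range (mat ψ) :=
    (LinearMap.range (mat ψ)).mkQ.restrictScalars A
  have hπ : Function.Surjective π := fun y =>
    Submodule.mkQ_surjective (LinearMap.range (mat ψ)) y
  let f : R ⊗[A] PF A n r →ₗ[R] R ⊗[A] (PF A n r ⧸ LinearMap.range (mat ψ)) := π.baseChange R
  have hfe : ∀ z, f z = LinearMap.lTensor R π z := fun z => by rw [← LinearMap.baseChange_eq_ltensor]
  have hf : Function.Surjective f := by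
    intro y
    obtain ⟨z, hz⟩ := LinearMap.lTensor_surjective R hπ y
    exact ⟨z, (hfe z).trans hz⟩
  let N := (LinearMap.range (mat fun j => pfMap A R (ψ j))).restrictScalars R
  let g : R ⊗[A] PF A n r →ₗ[R] PF R n r ⧸ N := N.mkQ ∘ₗ (pfEquiv R r).toLinearMap
  have hg : Function.Surjective g := N.mkQ_surjective.comp (pfEquiv R r).surjective
  have hex : Function.Exact (LinearMap.lTensor R ((mat ψ).restrictScalars A))
      (LinearMap.lTensor R π) := by
    refine lTensor_exact R ?_ hπ
    intro v
    exact (Submodule.Quotient.mk_eq_zero _)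
  have hk : LinearMap.ker f = LinearMap.ker g := by
    ext z
    rw [LinearMap.mem_ker, hfe, LinearMap.mem_ker]
    show _ ↔ N.mkQ (pfEquiv R r z) = 0
    rw [Submodule.mkQ_apply, Submodule.Quotient.mk_eq_zero, Submodule.restrictScalars_mem,
      LinearMap.mem_range, hex z]
    constructor
    · rintro ⟨y, rfl⟩
      exact ⟨pfEquiv R m y, (pfEquiv_mat R ψ y).symm⟩
    · rintro ⟨y, hy⟩
      exact ⟨(pfEquiv R m).symm y, (pfEquiv R r).injective (by
        rw [pfEquiv_mat, LinearEquiv.apply_symm_apply, hy])⟩
  let e : (R ⊗[A] (PF A n r ⧸ LinearMap.range (mat ψ))) ≃ₗ[R] (PF R n r ⧸ N) :=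
    ((f.quotKerEquivOfSurjective hf).symm.trans (Submodule.quotEquivOfEq _ _ hk)).trans
      (g.quotKerEquivOfSurjective hg)
  exact (Module.Flat.equiv_iff e).trans
    (Module.Flat.equiv_iff (Submodule.Quotient.restrictScalarsEquiv R _))

/-- If the cokernel over the small ring is flat, the kernel over the big ring comes from the
small one. -/
theorem ker_le_span (ψ : Fin m → PF A n r)
    [Module.Flat A (PF A n r ⧸ LinearMap.range (mat ψ))] :
    (LinearMap.ker (mat fun j => pfMap A R (ψ j)) : Submodule (MvPolynomial (Fin n) R) (PF R n m)) ≤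
      Submodule.span _ (pfMap A R '' (LinearMap.ker (mat ψ) : Set (PF A n m))) := by
  intro y hy
  let d := (mat ψ).restrictScalars A
  obtain ⟨z, rfl⟩ := (pfEquiv (A := A) R m).surjective y
  rw [LinearMap.mem_ker, ← pfEquiv_mat, LinearEquiv.map_eq_zero_iff] at hy
  have hrange : LinearMap.range d = (LinearMap.range (mat ψ)).restrictScalars A := by
    ext v; simp [d]
  haveI : Module.Flat A (PF A n r ⧸ LinearMap.range d) := by
    rw [hrange]
    exact Module.Flat.of_linearEquiv
      (Submodule.Quotient.restrictScalarsEquiv A (LinearMap.range (mat ψ)))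
  -- `R ⊗ range d → R ⊗ L₀` is injective
  have hinj : Function.Injective (LinearMap.lTensor R (LinearMap.range d).subtype) := by
    exact LinearMap.lTensor_injective_of_exact_of_flat (LinearMap.range d).mkQ
      (Submodule.mkQ_surjective _) (LinearMap.range d).subtype Subtype.val_injective
      (LinearMap.exact_subtype_mkQ _) R
  have h0 : LinearMap.lTensor R d.rangeRestrict z = 0 := by
    apply hinj
    rw [map_zero, ← LinearMap.comp_apply, ← LinearMap.lTensor_comp]
    exact hy
  have hex : Function.Exact (LinearMap.lTensor R (LinearMap.ker d).subtype)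
      (LinearMap.lTensor R d.rangeRestrict) := by
    refine lTensor_exact R ?_ d.surjective_rangeRestrict
    rw [LinearMap.exact_iff, LinearMap.ker_rangeRestrict, Submodule.range_subtype]
  obtain ⟨w, rfl⟩ := (hex z).1 h0
  clear hy h0
  induction w with
  | zero => simp
  | tmul c v =>
    rw [LinearMap.lTensor_tmul, pfEquiv_tmul, ← algebraMap_smul (MvPolynomial (Fin n) R) c]
    exact Submodule.smul_mem _ _ (Submodule.subset_span ⟨_, v.2, rfl⟩)
  | add x y hx hy => simp only [map_add]; exact Submodule.add_mem _ hx hy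

end Poly

/-- A map of free modules over a polynomial ring with flat cokernel has finitely generated kernel. -/
theorem fg_ker_mat {R : Type u} [CommRing R] {n m r : ℕ} (ψ : Fin m → PF R n r)
    [Module.Flat R (PF R n r ⧸ LinearMap.range (mat ψ))] :
    (LinearMap.ker (mat ψ) : Submodule (MvPolynomial (Fin n) R) (PF R n m)).FG := by
  classical
  let S : Finset R := Finset.univ.biUnion fun j => Finset.univ.biUnion fun i =>
    (ψ j i).support.image fun e => (ψ j i).coeff e
  let A₁ : Subalgebra ℤ R := Algebra.adjoin ℤ (S : Set R)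
  haveI : Algebra.FiniteType ℤ A₁ := Algebra.FiniteType.adjoin_of_finite S.finite_toSet
  haveI : IsNoetherianRing A₁ := Algebra.FiniteType.isNoetherianRing ℤ A₁
  have hlift : ∀ j i, ∃ p : MvPolynomial (Fin n) A₁, MvPolynomial.map (algebraMap A₁ R) p = ψ j i := by
    intro j i
    have : ψ j i ∈ Set.range (MvPolynomial.map (σ := Fin n) (algebraMap A₁ R)) := by
      rw [MvPolynomial.mem_range_map_iff_coeffs_subset]
      intro c hc
      obtain ⟨e, he, rfl⟩ := MvPolynomial.mem_coeffs_iff.1 hc
      exact ⟨⟨_, Algebra.subset_adjoin (Finset.mem_biUnion.2 ⟨j, Finset.mem_univ _,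
        Finset.mem_biUnion.2 ⟨i, Finset.mem_univ _, Finset.mem_image_of_mem _ he⟩⟩)⟩, rfl⟩
    exact this
  choose ψ₁ hψ₁ using hlift
  have hψ : (fun j => pfMap A₁ R (ψ₁ j)) = ψ := funext fun j => funext fun i => hψ₁ j i
  let C₁ := PF A₁ n r ⧸ LinearMap.range (mat ψ₁)
  haveI : Module.Flat R (R ⊗[A₁] C₁) := by
    rw [flat_coker_iff, hψ]
    assumption
  obtain ⟨s, hs⟩ := ModModel.exists_flat_subalgebra_module (A := A₁) (R := R)
    (MvPolynomial (Fin n) A₁) C₁
  let A₂ : Subalgebra A₁ R := Algebra.adjoin A₁ (s : Set R)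
  haveI : Algebra.FiniteType A₁ A₂ := Algebra.FiniteType.adjoin_of_finite s.finite_toSet
  haveI : IsNoetherianRing A₂ := Algebra.FiniteType.isNoetherianRing A₁ A₂
  haveI := hs A₂ Algebra.subset_adjoin inferInstance
  let ψ₂ : Fin m → PF A₂ n r := fun j => pfMap A₁ A₂ (ψ₁ j)
  haveI : Module.Flat A₂ (PF A₂ n r ⧸ LinearMap.range (mat ψ₂)) :=
    (flat_coker_iff A₂ ψ₁).1 inferInstance
  have hψ2 : (fun j => pfMap A₂ R (ψ₂ j)) = ψ := by
    rw [← hψ]
    funext j i
    simp only [pfMap, ψ₂, MvPolynomial.map_map]
    rfl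
  obtain ⟨G, hG⟩ := IsNoetherian.noetherian (LinearMap.ker (mat ψ₂))
  refine ⟨G.image (pfMap A₂ R), le_antisymm ?_ ?_⟩
  · rw [Submodule.span_le]
    intro w hw
    obtain ⟨v, hv, rfl⟩ := Finset.mem_image.1 hw
    have hv0 : mat ψ₂ v = 0 := LinearMap.mem_ker.1 (hG ▸ Submodule.subset_span hv)
    rw [SetLike.mem_coe, LinearMap.mem_ker, ← hψ2, ← pfMap_mat, hv0]
    ext i : 1; simp [pfMap]
  · intro y hy
    have := ker_le_span R ψ₂ (by rwa [hψ2])
    refine Submodule.span_le.2 ?_ this
    rintro _ ⟨v, hv, rfl⟩
    rw [← hG] at hv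
    induction hv using Submodule.span_induction with
    | mem v hv => exact Submodule.subset_span (Finset.mem_image_of_mem _ hv)
    | zero =>
      rw [show pfMap A₂ R (0 : PF A₂ n m) = 0 by ext i : 1; simp [pfMap]]
      exact Submodule.zero_mem _
    | add a b _ _ ha hb =>
      rw [show pfMap A₂ R (a + b) = pfMap A₂ R a + pfMap A₂ R b by ext i : 1; simp [pfMap]]
      exact Submodule.add_mem _ ha hb
    | smul c a _ ha =>
      rw [show pfMap A₂ R (c • a) = MvPolynomial.map (algebraMap A₂ R) c • pfMap A₂ R a by
        ext i : 1; simp [pfMap]]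
      exact Submodule.smul_mem _ _ ha

/-- An endomorphism by a scalar of a finitely presented module with flat cokernel has finitely
generated kernel. -/
theorem fg_ker_lsmul {R A : Type u} [CommRing R] [CommRing A] [Algebra R A]
    [Algebra.FinitePresentation R A] (M : Type u) [AddCommGroup M] [Module A M] [Module R M]
    [IsScalarTower R A M] [Module.FinitePresentation A M] (h : A)
    [Module.Flat R (M ⧸ LinearMap.range (LinearMap.lsmul A M h))] :
    (LinearMap.ker (LinearMap.lsmul A M h)).FG := by
  classical
  obtain ⟨n, φ, hφ, hker⟩ := Algebra.FinitePresentation.out (R := R) (A := A)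
  let P := MvPolynomial (Fin n) R
  letI : Algebra P A := φ.toRingHom.toAlgebra
  haveI : IsScalarTower R P A := IsScalarTower.of_algebraMap_eq fun x => (φ.commutes x).symm
  letI : Module P M := Module.compHom M φ.toRingHom
  haveI : IsScalarTower P A M := IsScalarTower.of_compHom _ _ M
  haveI : IsScalarTower R P M := IsScalarTower.of_algebraMap_smul fun x z => by
    show φ (algebraMap R P x) • z = x • z
    rw [φ.commutes, algebraMap_smul]
  haveI : Module.FinitePresentation P A :=
    Module.finitePresentation_of_surjective (Algebra.linearMap P A) hφ (by exact hker)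
  haveI : Module.FinitePresentation P M := Module.FinitePresentation.trans _ M A
  obtain ⟨h₀, rfl⟩ := hφ h
  obtain ⟨r, π, hπ⟩ := Module.Finite.exists_fin' P M
  obtain ⟨s, rel, hrel⟩ : ∃ (s : ℕ) (rel : Fin s → PF R n r),
      Submodule.span P (Set.range rel) = LinearMap.ker π := by
    obtain ⟨s, rel, hrel⟩ := Submodule.fg_iff_exists_fin_generating_family.1
      (Module.FinitePresentation.fg_ker π hπ)
    exact ⟨s, rel, hrel⟩
  let ψ : Fin (r + s) → PF R n r := Fin.append (fun i => h₀ • (Pi.single i (1 : P))) rel
  have hmat : ∀ y : PF R n (r + s), mat ψ y =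
      h₀ • (fun i => y (Fin.castAdd s i)) + ∑ j, y (Fin.natAdd r j) • rel j := by
    intro y
    rw [mat, Fintype.linearCombination_apply, Fin.sum_univ_add]
    simp only [ψ, Fin.append_left, Fin.append_right]
    congr 1
    conv_rhs => rw [pi_eq_sum_univ' (fun i => y (Fin.castAdd s i)), Finset.smul_sum]
    exact Finset.sum_congr rfl fun i _ => by rw [smul_comm]
  have hrange : ∀ v, v ∈ LinearMap.range (mat ψ) ↔
      π v ∈ LinearMap.range (LinearMap.lsmul A M (φ h₀)) := by
    intro v
    constructor
    · rintro ⟨y, rfl⟩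
      refine ⟨π (fun i => y (Fin.castAdd s i)), ?_⟩
      rw [hmat, map_add, map_smul, map_sum]
      have : ∀ j, π (y (Fin.natAdd r j) • rel j) = 0 := fun j => by
        rw [map_smul, LinearMap.mem_ker.1 (hrel ▸ Submodule.subset_span ⟨j, rfl⟩), smul_zero]
      simp only [this, Finset.sum_const_zero, add_zero]
      rfl
    · rintro ⟨m, hm⟩
      obtain ⟨w, rfl⟩ := hπ m
      have : v - h₀ • w ∈ LinearMap.ker π := by
        rw [LinearMap.mem_ker, map_sub, map_smul, sub_eq_zero, ← hm]
        rfl
      rw [← hrel] at this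
      obtain ⟨c, hc⟩ := (Submodule.mem_span_range_iff_exists_fun P).1 this
      refine ⟨Fin.append w c, ?_⟩
      rw [hmat]
      simp only [Fin.append_left, Fin.append_right, hc]
      abel
  haveI : Module.Flat R (PF R n r ⧸ LinearMap.range (mat ψ)) := by
    let g : PF R n r →ₗ[R] M ⧸ LinearMap.range (LinearMap.lsmul A M (φ h₀)) :=
      ((LinearMap.range (LinearMap.lsmul A M (φ h₀))).mkQ.restrictScalars R) ∘ₗ
        (π.restrictScalars R)
    have hg : Function.Surjective g := (Submodule.mkQ_surjective _).comp hπ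
    have hk : LinearMap.ker g = (LinearMap.range (mat ψ)).restrictScalars R := by
      ext v
      simp only [g, LinearMap.mem_ker, LinearMap.comp_apply, LinearMap.coe_restrictScalars,
        Submodule.mkQ_apply, Submodule.Quotient.mk_eq_zero, Submodule.restrictScalars_mem, hrange]
    exact Module.Flat.of_linearEquiv (((Submodule.Quotient.restrictScalarsEquiv R _).symm.trans
      (Submodule.quotEquivOfEq _ _ hk.symm)).trans (g.quotKerEquivOfSurjective hg))
  obtain ⟨G, hG⟩ := fg_ker_mat ψ
  refine ⟨G.image fun y => π (fun i => y (Fin.castAdd s i)), le_antisymm ?_ ?_⟩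
  · rw [Submodule.span_le]
    intro w hw
    obtain ⟨y, hy, rfl⟩ := Finset.mem_image.1 hw
    have hy0 : mat ψ y = 0 := LinearMap.mem_ker.1 (hG ▸ Submodule.subset_span hy)
    have := congrArg π hy0
    rw [hmat, map_add, map_smul, map_sum, map_zero] at this
    have e : ∀ j, π (y (Fin.natAdd r j) • rel j) = 0 := fun j => by
      rw [map_smul, LinearMap.mem_ker.1 (hrel ▸ Submodule.subset_span ⟨j, rfl⟩), smul_zero]
    simp only [e, Finset.sum_const_zero, add_zero] at this
    exact this
  · intro m hm
    obtain ⟨w, rfl⟩ := hπ m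
    have : h₀ • w ∈ LinearMap.ker π := by
      rw [LinearMap.mem_ker, map_smul]
      exact LinearMap.mem_ker.1 hm
    rw [← hrel] at this
    obtain ⟨c, hc⟩ := (Submodule.mem_span_range_iff_exists_fun P).1 this
    have hy : Fin.append w (-c) ∈ LinearMap.ker (mat ψ) := by
      rw [LinearMap.mem_ker, hmat]
      simp only [Fin.append_left, Fin.append_right, Pi.neg_apply, neg_smul, Finset.sum_neg_distrib,
        hc, add_neg_cancel]
    rw [← hG] at hy
    have key : ∀ y ∈ Submodule.span P (G : Set (PF R n (r + s))), π (fun i => y (Fin.castAdd s i)) ∈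
        Submodule.span A ((G.image fun y => π (fun i => y (Fin.castAdd s i)) : Finset M) : Set M) := by
      intro y hy
      induction hy using Submodule.span_induction with
      | mem y hy => exact Submodule.subset_span (Finset.mem_image_of_mem _ hy)
      | zero => simp only [Pi.zero_apply]; exact (map_zero π).symm ▸ Submodule.zero_mem _
      | add a b _ _ ha hb =>
        rw [show (fun i => (a + b) (Fin.castAdd s i)) = (fun i => a (Fin.castAdd s i)) +
          fun i => b (Fin.castAdd s i) from rfl, map_add]
        exact Submodule.add_mem _ ha hb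
      | smul c a _ ha =>
        rw [show (fun i => (c • a) (Fin.castAdd s i)) = c • fun i => a (Fin.castAdd s i) from rfl,
          map_smul, ← algebraMap_smul A c]
        exact Submodule.smul_mem _ _ ha
    have hk := key _ hy
    simp only [Fin.append_left] at hk
    exact hk

end Groth.Agent.FlatSlice
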