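import Mathlib
import Groth.Prelude.Def_FlatCA
import Groth.Agent.CAlgML.UnivInj
import Groth.Agent.UnivInjFib.Slice
import Groth.Agent.FlatLocus.Model
import Groth.Agent.FlatSlice.Kernel

/-!
Slicing a flat finitely presented module by an element regular on the fibre, near a point
(EGA IV 11.3.8, one step).
-/

namespace Groth.Agent.FlatSlice

open TensorProduct

universe u

/-- Localization commutes with quotients by a multiple. -/
theorem isLocalizedModule_quot {A M N : Type u} [CommRing A] [AddCommGroup M] [Module A M]
    [AddCommGroup N] [Module A N] (S : Submonoid A) (f : M →ₗ[A] N) [IsLocalizedModule S f] (h : A) :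
    IsLocalizedModule S (Submodule.mapQ (LinearMap.range (LinearMap.lsmul A M h))
      (LinearMap.range (LinearMap.lsmul A N h)) f
      (by rintro _ ⟨m, rfl⟩; exact ⟨f m, (map_smul f h m).symm⟩)) := by
  constructor
  · intro s
    rw [Module.End.isUnit_iff]
    have hb := (Module.End.isUnit_iff _).1 (IsLocalizedModule.map_units f s)
    constructor
    · rw [← LinearMap.ker_eq_bot, LinearMap.ker_eq_bot']
      intro x hx
      obtain ⟨n, rfl⟩ := Submodule.mkQ_surjective _ x
      rw [Module.algebraMap_end_apply, ← map_smul, Submodule.mkQ_apply,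
        Submodule.Quotient.mk_eq_zero] at hx
      obtain ⟨n', hn'⟩ := hx
      obtain ⟨n'', rfl⟩ := hb.2 n'
      rw [Submodule.mkQ_apply, Submodule.Quotient.mk_eq_zero]
      refine ⟨n'', hb.1 ?_⟩
      show (s : A) • (h • n'') = (s : A) • n
      rw [smul_comm]
      exact hn'
    · intro x
      obtain ⟨n, rfl⟩ := Submodule.mkQ_surjective _ x
      obtain ⟨n', rfl⟩ := hb.2 n
      exact ⟨Submodule.mkQ _ n', by rw [Module.algebraMap_end_apply, ← map_smul]; rfl⟩
  · intro y
    obtain ⟨n, rfl⟩ := Submodule.mkQ_surjective _ y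
    obtain ⟨⟨m, s⟩, hm⟩ := IsLocalizedModule.surj S f n
    refine ⟨⟨Submodule.mkQ _ m, s⟩, ?_⟩
    exact (((LinearMap.range (LinearMap.lsmul A N h)).mkQ).map_smul (s : A) n).symm.trans
      (congrArg _ hm)
  · intro x₁ x₂ hx
    obtain ⟨m₁, rfl⟩ := Submodule.mkQ_surjective _ x₁
    obtain ⟨m₂, rfl⟩ := Submodule.mkQ_surjective _ x₂
    obtain ⟨n, hn⟩ := (Submodule.Quotient.eq _).1 hx
    obtain ⟨⟨m, s⟩, hm⟩ := IsLocalizedModule.surj S f n
    have e : f ((s : A) • (m₁ - m₂)) = f (h • m) := by
      rw [map_smul, map_sub, ← hn, map_smul, ← hm]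
      show (s : A) • (h • n) = h • ((s : A) • n)
      rw [smul_comm]
    obtain ⟨t, ht⟩ := IsLocalizedModule.exists_of_eq (S := S) e
    refine ⟨t * s, ?_⟩
    show ((t : A) * s) • (LinearMap.range (LinearMap.lsmul A M h)).mkQ m₁ =
      ((t : A) * s) • (LinearMap.range (LinearMap.lsmul A M h)).mkQ m₂
    rw [← map_smul, ← map_smul]
    refine (Submodule.Quotient.eq _).2 ⟨(t : A) • m, ?_⟩
    show h • ((t : A) • m) = _
    have ht' : (t : A) • (s : A) • (m₁ - m₂) = (t : A) • h • m := ht
    rw [smul_comm, ← ht', smul_smul, smul_sub]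

/-- Flatness of a localization away from an element, checked at the primes of the basic open. -/
theorem flat_away_of_pointwise {R A M : Type u} [CommRing R] [CommRing A] [Algebra R A]
    [AddCommGroup M] [Module A M] [Module R M] [IsScalarTower R A M] (g : A)
    (h : ∀ (q : Ideal A) [q.IsPrime], g ∉ q → Module.Flat R (LocalizedModule q.primeCompl M)) :
    Module.Flat R (LocalizedModule (Submonoid.powers g) M) := by
  rw [Module.Flat.iff_lTensor_preserves_injective_linearMap]
  intro P P' _ _ _ _ f hf
  let L := LocalizedModule.mkLinearMap (Submonoid.powers g) M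
  let LP := TensorProduct.AlgebraTensorModule.rTensor R P L
  let LP' := TensorProduct.AlgebraTensorModule.rTensor R P' L
  have hnat : ∀ (N : Type u) [AddCommGroup N] [Module A N] [Module R N] [IsScalarTower R A N]
      (φ : M →ₗ[A] N) (z : M ⊗[R] P),
      LinearMap.lTensor N f (TensorProduct.AlgebraTensorModule.rTensor R P φ z) =
        TensorProduct.AlgebraTensorModule.rTensor R P' φ (LinearMap.lTensor M f z) := by
    intro N _ _ _ _ φ z
    induction z with
    | zero => simp
    | tmul a b => simp
    | add a b ha hb => simp only [map_add, ha, hb]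
  rw [injective_iff_map_eq_zero]
  intro z hz
  obtain ⟨⟨x, t⟩, hx⟩ := IsLocalizedModule.surj (Submonoid.powers g) LP z
  have hx0 : LP' (LinearMap.lTensor M f x) = 0 := by
    rw [← hnat, ← show (t : A) • z = LP x from hx,
      show LinearMap.lTensor _ f ((t : A) • z) = (t : A) • LinearMap.lTensor _ f z from
        map_smul (TensorProduct.AlgebraTensorModule.lTensor A _ f) (t : A) z, hz, smul_zero]
  obtain ⟨t', ht'⟩ := (IsLocalizedModule.eq_zero_iff (Submonoid.powers g) LP').1 hx0
  let x' := (t' : A) • x
  have hx' : LinearMap.lTensor M f x' = 0 :=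
    (map_smul (TensorProduct.AlgebraTensorModule.lTensor A M f) (t' : A) x).trans ht'
  have hrad : g ∈ (Ideal.torsionOf A _ x').radical := by
    rw [Ideal.radical_eq_sInf, Ideal.mem_sInf]
    rintro q ⟨hq, hqp⟩
    by_contra hgq
    have := h q hgq
    have h0 : TensorProduct.AlgebraTensorModule.rTensor R P
        (LocalizedModule.mkLinearMap q.primeCompl M) x' = 0 := by
      apply Module.Flat.lTensor_preserves_injective_linearMap
        (M := LocalizedModule q.primeCompl M) f hf
      rw [hnat, hx', map_zero, map_zero]
    obtain ⟨s, hs⟩ := (IsLocalizedModule.eq_zero_iff q.primeCompl _).1 h0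
    exact s.2 (hq hs)
  obtain ⟨j, hj⟩ := hrad
  have h1 : (g ^ j * t' * t : A) • z = 0 := by
    rw [mul_smul, show (t : A) • z = LP x from hx, ← map_smul, mul_smul,
      show g ^ j • x' = 0 from hj, map_zero]
  have hpw : (g ^ j * t' * t : A) ∈ Submonoid.powers g :=
    mul_mem (mul_mem ⟨j, rfl⟩ t'.2) t.2
  have hu := (Module.End.isUnit_iff _).1
    (IsLocalizedModule.map_units (S := Submonoid.powers g) LP ⟨_, hpw⟩)
  exact hu.1 (h1.trans (map_zero _).symm)

/-- One slicing step. -/
theorem exists_step {R A : Type u} [CommRing R] [CommRing A] [Algebra R A]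
    [Algebra.FinitePresentation R A] (M : Type u) [AddCommGroup M] [Module A M] [Module R M]
    [IsScalarTower R A M] [Module.FinitePresentation A M] (q : Ideal A) [q.IsPrime] (h : A)
    [Module.Flat R (LocalizedModule q.primeCompl M)]
    (hreg : ∀ z : LocalizedModule q.primeCompl M,
      h • z ∈ q.comap (algebraMap R A) • (⊤ : Submodule R (LocalizedModule q.primeCompl M)) →
      z ∈ q.comap (algebraMap R A) • (⊤ : Submodule R (LocalizedModule q.primeCompl M))) :
    ∃ g ∉ q, ∀ (q' : Ideal A) [q'.IsPrime], g ∉ q' →
      Module.Flat R (LocalizedModule q'.primeCompl M) ∧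
      Function.Injective (fun z : LocalizedModule q'.primeCompl M => h • z) ∧
      Module.Flat R (LocalizedModule q'.primeCompl (M ⧸ LinearMap.range (LinearMap.lsmul A M h))) := by
  classical
  let p := q.comap (algebraMap R A)
  let Rp := Localization.AtPrime p
  let Aq := Localization.AtPrime q
  let N := LocalizedModule q.primeCompl M
  let φ : Rp →+* Aq := Localization.localRingHom p q (algebraMap R A) rfl
  letI : Algebra Rp Aq := φ.toAlgebra
  haveI : IsScalarTower R Rp Aq := IsScalarTower.of_algebraMap_eq fun r => by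
    change _ = φ _
    rw [Localization.localRingHom_to_map, ← IsScalarTower.algebraMap_apply R A Aq]
  haveI : IsLocalHom (algebraMap Rp Aq) := Localization.isLocalHom_localRingHom _ _ _ _
  letI : Module Rp N := Module.compHom N (algebraMap Rp Aq)
  haveI : IsScalarTower Rp Aq N := IsScalarTower.of_compHom _ _ N
  haveI : IsScalarTower R Rp N := IsScalarTower.of_algebraMap_smul fun r z => by
    show algebraMap Rp Aq (algebraMap R Rp r) • z = r • z
    rw [← IsScalarTower.algebraMap_apply, algebraMap_smul]
  haveI : Module.FinitePresentation Aq N :=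
    FinitePresentation.of_isBaseChange (LocalizedModule.mkLinearMap q.primeCompl M)
      (IsLocalizedModule.isBaseChange q.primeCompl Aq _)
  haveI : Module.Flat Rp N := (Module.flat_iff_of_isLocalization Rp p.primeCompl N).2 inferInstance
  -- essentially of finite presentation over `Rp`
  have hS : FlatCA.EssFinitePresentation Rp Aq := by
    let T := Algebra.algebraMapSubmonoid A p.primeCompl
    let S₀ := Localization T
    have hT : T ≤ q.primeCompl := by
      rintro _ ⟨r, hr, rfl⟩
      exact hr
    letI : Algebra Rp S₀ := localizationAlgebra p.primeCompl A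
    letI : Algebra S₀ Aq := IsLocalization.localizationAlgebraOfSubmonoidLe S₀ Aq T q.primeCompl hT
    haveI : IsScalarTower A S₀ Aq :=
      IsLocalization.localization_isScalarTower_of_submonoid_le S₀ Aq T q.primeCompl hT
    haveI : IsScalarTower R Rp S₀ := IsScalarTower.of_algebraMap_eq fun r => by
      rw [IsScalarTower.algebraMap_apply R A S₀]
      exact (IsLocalization.map_eq (Q := S₀)
        (show p.primeCompl ≤ T.comap (algebraMap R A) from p.primeCompl.le_comap_map) r).symm
    haveI : IsScalarTower Rp S₀ Aq := IsScalarTower.of_algebraMap_eq' <| by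
      apply IsLocalization.ringHom_ext p.primeCompl
      rw [RingHom.comp_assoc, ← IsScalarTower.algebraMap_eq R Rp S₀,
        IsScalarTower.algebraMap_eq R A S₀, ← RingHom.comp_assoc,
        ← IsScalarTower.algebraMap_eq A S₀ Aq, ← IsScalarTower.algebraMap_eq R A Aq,
        ← IsScalarTower.algebraMap_eq R Rp Aq]
    haveI : IsLocalization (q.primeCompl.map (algebraMap A S₀).toMonoidHom) Aq :=
      IsLocalization.isLocalization_of_submonoid_le S₀ Aq T q.primeCompl hT
    haveI : Algebra.IsPushout R Rp A S₀ := (Algebra.isPushout_of_isLocalization p.primeCompl Rp A S₀).symm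
    haveI : Algebra.FinitePresentation Rp S₀ :=
      Algebra.FinitePresentation.equiv (Algebra.IsPushout.equiv R Rp A S₀)
    exact ⟨S₀, inferInstance, inferInstance, inferInstance, inferInstance, _, inferInstance, ‹_›⟩
  have hmem : ∀ z : N, z ∈ IsLocalRing.maximalIdeal Rp • (⊤ : Submodule Rp N) ↔
      z ∈ p • (⊤ : Submodule R N) := by
    intro z
    rw [← Localization.AtPrime.map_eq_maximalIdeal]
    constructor
    · intro hz
      induction hz using Submodule.smul_induction_on' with
      | smul c hc y _ =>
        revert y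
        induction hc using Submodule.span_induction with
        | mem c hc =>
          obtain ⟨r, hr, rfl⟩ := hc
          intro y _
          rw [algebraMap_smul]
          exact Submodule.smul_mem_smul hr Submodule.mem_top
        | zero => intro y _; rw [zero_smul]; exact Submodule.zero_mem _
        | add a b _ _ ha hb =>
          intro y hy; rw [add_smul]; exact Submodule.add_mem _ (ha y hy) (hb y hy)
        | smul a b _ hb => intro y _; rw [smul_eq_mul, mul_comm, mul_smul]; exact hb _ Submodule.mem_top
      | add x _ y _ hx hy => exact Submodule.add_mem _ hx hy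
    · intro hz
      induction hz using Submodule.smul_induction_on' with
      | smul r hr y _ =>
        rw [← algebraMap_smul Rp r y]
        exact Submodule.smul_mem_smul (Ideal.mem_map_of_mem _ hr) Submodule.mem_top
      | add x _ y _ hx hy => exact Submodule.add_mem _ hx hy
  have hreg' : ∀ z : N, algebraMap A Aq h • z ∈ IsLocalRing.maximalIdeal Rp • (⊤ : Submodule Rp N) →
      z ∈ IsLocalRing.maximalIdeal Rp • (⊤ : Submodule Rp N) := by
    intro z hz
    rw [hmem, algebraMap_smul] at hz
    exact (hmem z).2 (hreg z hz)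
  have huniv := fun (Q : Type u) [AddCommGroup Q] [Module Rp Q] =>
    UnivInjFib.univInj_smul hS (N := N) (algebraMap A Aq h) hreg' Q
  let μ : N →ₗ[Rp] N := (LinearMap.lsmul Aq N (algebraMap A Aq h)).restrictScalars Rp
  have hμ : CAlgX.UniversallyInjective Rp μ := by
    intro Q _ _
    have e : μ.rTensor Q = (TensorProduct.comm Rp Q N).toLinearMap ∘ₗ μ.lTensor Q ∘ₗ
        (TensorProduct.comm Rp N Q).toLinearMap := by ext; simp
    rw [e]
    exact (TensorProduct.comm Rp Q N).injective.comp
      ((huniv Q).comp (TensorProduct.comm Rp N Q).injective)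
  have hinjq : Function.Injective (fun z : N => h • z) := by
    intro a b hab
    apply (TensorProduct.rid Rp N).symm.injective
    apply hμ Rp
    simp only [TensorProduct.rid_symm_apply, LinearMap.rTensor_tmul]
    congr 1
    show algebraMap A Aq h • a = algebraMap A Aq h • b
    rw [algebraMap_smul, algebraMap_smul]
    exact hab
  have hCq : Module.Flat R
      (LocalizedModule q.primeCompl (M ⧸ LinearMap.range (LinearMap.lsmul A M h))) := by
    have hflat : Module.Flat Rp (N ⧸ LinearMap.range μ) :=
      CAlgML.flat_of_universallyInjective_presentation μ (LinearMap.range μ).mkQ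
        (LinearMap.exact_map_mkQ_range μ) (Submodule.mkQ_surjective _) hμ
    haveI : Module.Flat R (N ⧸ LinearMap.range μ) := Module.Flat.trans R Rp _
    haveI := isLocalizedModule_quot q.primeCompl (LocalizedModule.mkLinearMap q.primeCompl M) h
    let e1 := IsLocalizedModule.iso q.primeCompl (Submodule.mapQ (LinearMap.range (LinearMap.lsmul A M h))
      (LinearMap.range (LinearMap.lsmul A N h)) (LocalizedModule.mkLinearMap q.primeCompl M)
      _)
    have hr : (LinearMap.range μ).restrictScalars R =
        (LinearMap.range (LinearMap.lsmul A N h)).restrictScalars R := by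
      ext z
      simp only [Submodule.restrictScalars_mem, LinearMap.mem_range]
      exact exists_congr fun w => by
        show algebraMap A Aq h • w = z ↔ h • w = z
        rw [algebraMap_smul]
    let e2 : (N ⧸ LinearMap.range μ) ≃ₗ[R] (N ⧸ LinearMap.range (LinearMap.lsmul A N h)) :=
      ((Submodule.Quotient.restrictScalarsEquiv R _).symm.trans
        (Submodule.quotEquivOfEq _ _ hr)).trans (Submodule.Quotient.restrictScalarsEquiv R _)
    exact Module.Flat.of_linearEquiv ((e1.restrictScalars R).trans e2.symm)
  -- a neighbourhood where both are flat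
  let C := M ⧸ LinearMap.range (LinearMap.lsmul A M h)
  haveI : Module.FinitePresentation A C :=
    Module.finitePresentation_of_surjective (LinearMap.range (LinearMap.lsmul A M h)).mkQ
      (Submodule.mkQ_surjective _)
      (by rw [Submodule.ker_mkQ, LinearMap.range_eq_map]; exact Module.Finite.fg_top.map _)
  obtain ⟨_, ⟨g, rfl⟩, hg, hgsub⟩ :=
    PrimeSpectrum.isTopologicalBasis_basic_opens.exists_subset_of_mem_open
      (show (⟨q, ‹_›⟩ : PrimeSpectrum A) ∈
        {q' : PrimeSpectrum A | Module.Flat R (LocalizedModule q'.asIdeal.primeCompl M)} ∩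
        {q' : PrimeSpectrum A | Module.Flat R (LocalizedModule q'.asIdeal.primeCompl C)}
        from ⟨‹Module.Flat R (LocalizedModule q.primeCompl M)›, hCq⟩)
      ((FlatLocus.isOpen_flatLocus).inter FlatLocus.isOpen_flatLocus)
  have hg0 : g ∉ q := hg
  -- the kernel near `q`
  let A' := Localization.Away g
  let M' := LocalizedModule (Submonoid.powers g) M
  haveI : Algebra.FinitePresentation A A' := IsLocalization.Away.finitePresentation g
  haveI : Algebra.FinitePresentation R A' := Algebra.FinitePresentation.trans R A A'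
  haveI : Module.FinitePresentation A' M' :=
    FinitePresentation.of_isBaseChange (LocalizedModule.mkLinearMap (Submonoid.powers g) M)
      (IsLocalizedModule.isBaseChange (Submonoid.powers g) A' _)
  haveI : Module.Flat R (LocalizedModule (Submonoid.powers g) C) :=
    flat_away_of_pointwise g fun q' hq' hgq' => (hgsub (show (⟨q', hq'⟩ : PrimeSpectrum A) ∈ _ from hgq')).2
  haveI : Module.Flat R (M' ⧸ LinearMap.range (LinearMap.lsmul A' M' (algebraMap A A' h))) := by
    haveI := isLocalizedModule_quot (Submonoid.powers g)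
      (LocalizedModule.mkLinearMap (Submonoid.powers g) M) h
    let e1 := IsLocalizedModule.iso (Submonoid.powers g) (Submodule.mapQ
      (LinearMap.range (LinearMap.lsmul A M h)) (LinearMap.range (LinearMap.lsmul A M' h))
      (LocalizedModule.mkLinearMap (Submonoid.powers g) M)
      _)
    have hr : (LinearMap.range (LinearMap.lsmul A' M' (algebraMap A A' h))).restrictScalars R =
        (LinearMap.range (LinearMap.lsmul A M' h)).restrictScalars R := by
      ext z
      simp only [Submodule.restrictScalars_mem, LinearMap.mem_range]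
      exact exists_congr fun w => by
        show algebraMap A A' h • w = z ↔ h • w = z
        rw [algebraMap_smul]
    let e2 : (M' ⧸ LinearMap.range (LinearMap.lsmul A' M' (algebraMap A A' h))) ≃ₗ[R]
        (M' ⧸ LinearMap.range (LinearMap.lsmul A M' h)) :=
      ((Submodule.Quotient.restrictScalarsEquiv R _).symm.trans
        (Submodule.quotEquivOfEq _ _ hr)).trans (Submodule.Quotient.restrictScalarsEquiv R _)
    exact Module.Flat.of_linearEquiv (e2.trans (e1.restrictScalars R).symm)
  obtain ⟨G, hG⟩ := fg_ker_lsmul (R := R) (A := A') M' (algebraMap A A' h)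
  -- each generator is killed outside `q`
  have hgen : ∀ w ∈ G, ∃ a ∉ q, a • w = 0 := by
    intro w hw
    have hw0 : algebraMap A A' h • w = 0 := LinearMap.mem_ker.1 (hG ▸ Submodule.subset_span hw)
    obtain ⟨⟨m, t⟩, hm⟩ := IsLocalizedModule.surj (Submonoid.powers g)
      (LocalizedModule.mkLinearMap (Submonoid.powers g) M) w
    have hm0 : LocalizedModule.mkLinearMap (Submonoid.powers g) M (h • m) = 0 := by
      rw [map_smul, ← hm]
      show h • ((t : A) • w) = 0
      rw [smul_comm, ← algebraMap_smul A' h w, hw0, smul_zero]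
    obtain ⟨t', ht'⟩ := (IsLocalizedModule.eq_zero_iff (Submonoid.powers g) _).1 hm0
    have hpow : ∀ a ∈ Submonoid.powers g, a ∉ q := by
      rintro _ ⟨i, rfl⟩ hmem
      exact hg0 ((‹q.IsPrime›).mem_of_pow_mem i hmem)
    have hq0 : LocalizedModule.mkLinearMap q.primeCompl M ((t' : A) • m) = 0 := by
      apply hinjq
      show h • _ = h • (0 : N)
      rw [smul_zero, ← map_smul, smul_comm]
      exact (congrArg _ ht').trans (map_zero _)
    obtain ⟨s, hs⟩ := (IsLocalizedModule.eq_zero_iff q.primeCompl _).1 hq0
    refine ⟨(s : A) * t' * t, fun hmem => ?_, ?_⟩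
    · rcases (‹q.IsPrime›).mem_or_mem hmem with h1 | h1
      · rcases (‹q.IsPrime›).mem_or_mem h1 with h2 | h2
        · exact s.2 h2
        · exact hpow _ t'.2 h2
      · exact hpow _ t.2 h1
    · rw [mul_smul, show (t : A) • w = _ from hm, ← map_smul, mul_smul,
        show (s : A) • ((t' : A) • m) = 0 from hs, map_zero]
  choose! a ha haw using hgen
  let a₀ := ∏ w ∈ G, a w
  have hK : ∀ w : M', algebraMap A A' h • w = 0 → a₀ • w = 0 := by
    intro w hw
    have : w ∈ Submodule.span A' (G : Set M') := by rw [hG]; exact LinearMap.mem_ker.2 hw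
    induction this using Submodule.span_induction with
    | mem w hwG =>
      obtain ⟨b, hb⟩ : a w ∣ a₀ := Finset.dvd_prod_of_mem a hwG
      rw [hb, mul_comm, mul_smul, haw w hwG, smul_zero]
    | zero => rw [smul_zero]
    | add x y hx' hy' hx hy =>
      have hx0 : algebraMap A A' h • x = 0 := LinearMap.mem_ker.1 (hG ▸ hx')
      have hy0 : algebraMap A A' h • y = 0 := LinearMap.mem_ker.1 (hG ▸ hy')
      rw [smul_add, hx hx0, hy hy0, add_zero]
    | smul c x hx' hx =>
      have hx0 : algebraMap A A' h • x = 0 := LinearMap.mem_ker.1 (hG ▸ hx')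
      rw [smul_comm, hx hx0, smul_zero]
  refine ⟨g * a₀, fun hmem => ?_, fun q' hq' hga => ?_⟩
  · rcases (‹q.IsPrime›).mem_or_mem hmem with h1 | h1
    · exact hg0 h1
    · obtain ⟨w, hw, h2⟩ := (Ideal.IsPrime.prod_mem_iff).1 h1
      exact ha w hw h2
  have hgq' : g ∉ q' := fun h' => hga (Ideal.mul_mem_right _ _ h')
  have haq' : a₀ ∉ q' := fun h' => hga (Ideal.mul_mem_left _ _ h')
  refine ⟨(hgsub (show (⟨q', hq'⟩ : PrimeSpectrum A) ∈ _ from hgq')).1, ?_,
    (hgsub (show (⟨q', hq'⟩ : PrimeSpectrum A) ∈ _ from hgq')).2⟩
  let L := LocalizedModule.mkLinearMap q'.primeCompl M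
  suffices key : ∀ z, h • z = 0 → z = (0 : LocalizedModule q'.primeCompl M) by
    intro x y hxy
    exact sub_eq_zero.1 (key _ (by rw [smul_sub, sub_eq_zero]; exact hxy))
  intro z hz
  obtain ⟨⟨m, t⟩, hm⟩ := IsLocalizedModule.surj q'.primeCompl L z
  have hm0 : L (h • m) = 0 := by
    rw [map_smul, ← hm]
    show h • ((t : A) • z) = 0
    rw [smul_comm, hz, smul_zero]
  obtain ⟨v, hv⟩ := (IsLocalizedModule.eq_zero_iff q'.primeCompl L).1 hm0
  have hw : algebraMap A A' h •
      LocalizedModule.mkLinearMap (Submonoid.powers g) M ((v : A) • m) = 0 := by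
    rw [algebraMap_smul, ← map_smul, smul_comm]
    exact (congrArg _ hv).trans (map_zero _)
  have hw2 := hK _ hw
  rw [← map_smul] at hw2
  obtain ⟨⟨_, i, rfl⟩, hi⟩ := (IsLocalizedModule.eq_zero_iff (Submonoid.powers g) _).1 hw2
  have hu : IsUnit (algebraMap A (Module.End A (LocalizedModule q'.primeCompl M))
      (g ^ i * a₀ * v * t)) := by
    refine IsLocalizedModule.map_units L ⟨_, mul_mem (mul_mem (mul_mem ?_ haq') v.2) t.2⟩
    exact fun hmem => hgq' (hq'.mem_of_pow_mem i hmem)
  apply ((Module.End.isUnit_iff _).1 hu).1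
  simp only [Module.algebraMap_end_apply, smul_zero]
  rw [mul_smul, show (t : A) • z = L m from hm, mul_smul, mul_smul, ← map_smul, ← map_smul,
    ← map_smul]
  exact (congrArg L hi).trans (map_zero L)

end Groth.Agent.FlatSlice
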