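import Mathlib
import Groth.Agent.FlatSlice.Step

/-!
Sequences regular on a fibre, with flat quotients near the point (EGA IV 11.3.8).
-/

namespace Groth.Agent.FlatSlice

open TensorProduct RingTheory.Sequence
open scoped Pointwise

universe u

variable {R A : Type u} [CommRing R] [CommRing A] [Algebra R A]

/-- A module flat over `R`, with a regular sequence all of whose successive quotients are flat
over `R`. -/
inductive Sliced (R : Type u) {A : Type u} [CommRing R] [CommRing A] [Algebra R A] :
    List A → ∀ (M : Type u) [AddCommGroup M] [Module A M] [Module R M] [IsScalarTower R A M], Prop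
  | nil (M : Type u) [AddCommGroup M] [Module A M] [Module R M] [IsScalarTower R A M]
      (h : Module.Flat R M) : Sliced R [] M
  | cons (h : A) (t : List A) (M : Type u) [AddCommGroup M] [Module A M] [Module R M]
      [IsScalarTower R A M] (hf : Module.Flat R M) (hi : Function.Injective fun m : M => h • m)
      (ht : Sliced R t (M ⧸ LinearMap.range (LinearMap.lsmul A M h))) : Sliced R (h :: t) M

theorem range_lsmul (M : Type u) [AddCommGroup M] [Module A M] (h : A) :
    LinearMap.range (LinearMap.lsmul A M h) = h • (⊤ : Submodule A M) := by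
  ext x
  simp [Submodule.mem_smul_pointwise_iff_exists]

theorem Sliced.congr {l : List A} {M : Type u} [AddCommGroup M] [Module A M] [Module R M]
    [IsScalarTower R A M] (hs : Sliced R l M) {M' : Type u} [AddCommGroup M'] [Module A M']
    [Module R M'] [IsScalarTower R A M'] (e : M ≃ₗ[A] M') : Sliced R l M' := by
  induction hs generalizing M' with
  | nil M h => exact .nil _ (Module.Flat.of_linearEquiv (e.symm.restrictScalars R))
  | cons h t M hf hi ht ih =>
    refine .cons h t _ (Module.Flat.of_linearEquiv (e.symm.restrictScalars R)) ?_ ?_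
    · intro a b hab
      apply e.symm.injective
      apply hi
      show h • e.symm a = h • e.symm b
      rw [← map_smul, ← map_smul]
      exact congrArg _ hab
    · refine ih (Submodule.Quotient.equiv _ _ e ?_)
      ext x
      simp only [Submodule.mem_map, LinearMap.mem_range, LinearMap.lsmul_apply]
      constructor
      · rintro ⟨_, ⟨m, rfl⟩, rfl⟩
        exact ⟨e m, (map_smul e h m).symm⟩
      · rintro ⟨m, rfl⟩
        exact ⟨h • e.symm m, ⟨_, rfl⟩, by simp⟩

/-- Quotient of a tensor product by a multiple. -/
theorem nonempty_quotTensorEquiv (M : Type u) [AddCommGroup M] [Module A M] [Module R M]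
    [IsScalarTower R A M] (h : A) (Q : Type u) [AddCommGroup Q] [Module R Q] :
    Nonempty (((M ⧸ LinearMap.range (LinearMap.lsmul A M h)) ⊗[R] Q) ≃ₗ[A]
      QuotSMulTop h (M ⊗[R] Q)) := by
  let π : M →ₗ[A] M ⧸ LinearMap.range (LinearMap.lsmul A M h) :=
    (LinearMap.range (LinearMap.lsmul A M h)).mkQ
  let f : M ⊗[R] Q →ₗ[A] (M ⧸ LinearMap.range (LinearMap.lsmul A M h)) ⊗[R] Q :=
    AlgebraTensorModule.rTensor R Q π
  have hfe : ∀ z, f z = (π.restrictScalars R).rTensor Q z := fun z => by
    induction z with
    | zero => simp
    | tmul m x => simp [f]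
    | add a b ha hb => simp only [map_add, ha, hb]
  have hπ : Function.Surjective (π.restrictScalars R) := fun y => by
    induction y using Submodule.Quotient.induction_on with
    | _ m => exact ⟨m, rfl⟩
  have hf : Function.Surjective f := fun y => by
    obtain ⟨z, hz⟩ := LinearMap.rTensor_surjective Q hπ y
    exact ⟨z, (hfe z).trans hz⟩
  have hex : Function.Exact (((LinearMap.lsmul A M h).restrictScalars R).rTensor Q)
      ((π.restrictScalars R).rTensor Q) := by
    refine rTensor_exact Q (fun x => ?_) hπ
    exact Submodule.Quotient.mk_eq_zero (LinearMap.range (LinearMap.lsmul A M h))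
  have e : ∀ z, ((LinearMap.lsmul A M h).restrictScalars R).rTensor Q z = h • z := by
    intro z
    induction z with
    | zero => simp
    | tmul m x => simp [smul_tmul']
    | add a b ha hb => simp only [map_add, smul_add, ha, hb]
  have hk : LinearMap.ker f = h • (⊤ : Submodule A (M ⊗[R] Q)) := by
    ext z
    rw [LinearMap.mem_ker, Submodule.mem_smul_pointwise_iff_exists, hfe, hex z]
    simp only [Set.mem_range, e, Submodule.mem_top, true_and]
  exact ⟨(f.quotKerEquivOfSurjective hf).symm.trans (Submodule.quotEquivOfEq _ _ hk)⟩

/-- A sliced module stays regular after tensoring with any module. -/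
theorem Sliced.isWeaklyRegular_tensor {l : List A} {M : Type u} [AddCommGroup M] [Module A M]
    [Module R M] [IsScalarTower R A M] (hs : Sliced R l M) (Q : Type u) [AddCommGroup Q]
    [Module R Q] : IsWeaklyRegular (M ⊗[R] Q) l := by
  induction hs with
  | nil M h => exact .nil A _
  | cons h t M hf hi ht ih =>
    refine (isWeaklyRegular_cons_iff _ h t).2 ⟨?_, ?_⟩
    · haveI : Module.Flat R (M ⧸ LinearMap.range (LinearMap.lsmul A M h)) := by
        cases ht with
        | nil _ h => exact h
        | cons _ _ _ hf' _ _ => exact hf'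
      have hu := CAlgML.universallyInjective_of_flat_coker (R := R)
        ((LinearMap.lsmul A M h).restrictScalars R)
        ((LinearMap.range (LinearMap.lsmul A M h)).mkQ.restrictScalars R) hi
        (fun x => Submodule.Quotient.mk_eq_zero _)
        (fun y => Submodule.mkQ_surjective (LinearMap.range (LinearMap.lsmul A M h)) y) Q
      intro a b hab
      apply hu
      have e : ∀ z, ((LinearMap.lsmul A M h).restrictScalars R).rTensor Q z = h • z := by
        intro z
        induction z with
        | zero => simp
        | tmul m x => simp [smul_tmul']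
        | add a b ha hb => simp only [map_add, smul_add, ha, hb]
      rw [e, e]
      exact hab
    · obtain ⟨e⟩ := nonempty_quotTensorEquiv (R := R) M h Q
      exact (e.isWeaklyRegular_congr t).1 ih

theorem Sliced.isWeaklyRegular {l : List A} {M : Type u} [AddCommGroup M] [Module A M]
    [Module R M] [IsScalarTower R A M] (hs : Sliced R l M) : IsWeaklyRegular M l :=
  ((AlgebraTensorModule.rid R A M).isWeaklyRegular_congr l).1 (hs.isWeaklyRegular_tensor R)

/-- The final quotient is flat. -/
theorem Sliced.flat_quotient {l : List A} {M : Type u} [AddCommGroup M] [Module A M] [Module R M]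
    [IsScalarTower R A M] (hs : Sliced R l M) :
    Module.Flat R (M ⧸ Ideal.ofList l • (⊤ : Submodule A M)) := by
  induction hs with
  | nil M h =>
    exact Module.Flat.of_linearEquiv
      ((Submodule.quotEquivOfEqBot _ (by simp)).restrictScalars R)
  | cons h t M hf hi ht ih =>
    let e₁ := Submodule.quotOfListConsSMulTopEquivQuotSMulTopInner M h t
    let e₂ : (M ⧸ LinearMap.range (LinearMap.lsmul A M h)) ≃ₗ[A] QuotSMulTop h M :=
      Submodule.quotEquivOfEq _ _ (range_lsmul M h)
    let e₃ : ((M ⧸ LinearMap.range (LinearMap.lsmul A M h)) ⧸ Ideal.ofList t •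
        (⊤ : Submodule A (M ⧸ LinearMap.range (LinearMap.lsmul A M h)))) ≃ₗ[A]
        (QuotSMulTop h M ⧸ Ideal.ofList t • (⊤ : Submodule A (QuotSMulTop h M))) :=
      Submodule.Quotient.equiv _ _ e₂ (by
        rw [Submodule.map_smul'', Submodule.map_top, LinearEquiv.range])
    exact Module.Flat.of_linearEquiv ((e₁.trans e₃.symm).restrictScalars R)

/-- The fibre of a quotient by a multiple. -/
theorem nonempty_fibreQuotEquiv (N : Type u) [AddCommGroup N] [Module A N] (I : Ideal A) (h : A) :
    Nonempty (QuotSMulTop h (N ⧸ I • (⊤ : Submodule A N)) ≃ₗ[A]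
      ((N ⧸ LinearMap.range (LinearMap.lsmul A N h)) ⧸
        I • (⊤ : Submodule A (N ⧸ LinearMap.range (LinearMap.lsmul A N h))))) := by
  let p₁ := I • (⊤ : Submodule A N)
  let p₂ := LinearMap.range (LinearMap.lsmul A N h)
  have h1 : (h • (⊤ : Submodule A (N ⧸ p₁))) = p₂.map p₁.mkQ := by
    rw [← range_lsmul]
    ext x
    constructor
    · rintro ⟨y, rfl⟩
      obtain ⟨n, rfl⟩ := p₁.mkQ_surjective y
      exact ⟨h • n, ⟨n, rfl⟩, map_smul _ h n⟩
    · rintro ⟨_, ⟨n, rfl⟩, rfl⟩
      exact ⟨p₁.mkQ n, (map_smul p₁.mkQ h n).symm⟩
  have h2 : (I • (⊤ : Submodule A (N ⧸ p₂))) = p₁.map p₂.mkQ := by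
    rw [Submodule.map_smul'', Submodule.map_top, Submodule.range_mkQ]
  exact ⟨((Submodule.quotEquivOfEq _ _ h1).trans (Submodule.quotientQuotientEquivQuotientSup p₁ p₂)).trans
    ((Submodule.quotEquivOfEq _ _ (sup_comm p₁ p₂)).trans
      ((Submodule.quotientQuotientEquivQuotientSup p₂ p₁).symm.trans
        (Submodule.quotEquivOfEq _ _ h2.symm)))⟩

theorem mem_map_smul_top_iff {N : Type u} [AddCommGroup N] [Module A N] [Module R N]
    [IsScalarTower R A N] (p : Ideal R) (z : N) :
    z ∈ p.map (algebraMap R A) • (⊤ : Submodule A N) ↔ z ∈ p • (⊤ : Submodule R N) := by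
  constructor
  · intro hz
    induction hz using Submodule.smul_induction_on' with
    | smul c hc y _ =>
      revert y
      induction hc using Submodule.span_induction with
      | mem c hc =>
        obtain ⟨r, hr, rfl⟩ := hc
        intro y _
        rw [algebraMap_smul]
        exact Submodule.smul_mem_smul hr Submodule.mem_top
      | zero => intro y _; rw [zero_smul]; exact Submodule.zero_mem _
      | add a b _ _ ha hb =>
        intro y hy; rw [add_smul]; exact Submodule.add_mem _ (ha y hy) (hb y hy)
      | smul a b _ hb =>
        intro y _; rw [smul_eq_mul, mul_comm, mul_smul]; exact hb _ Submodule.mem_top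
    | add x _ y _ hx hy => exact Submodule.add_mem _ hx hy
  · intro hz
    induction hz using Submodule.smul_induction_on' with
    | smul r hr y _ =>
      rw [← algebraMap_smul A r y]
      exact Submodule.smul_mem_smul (Ideal.mem_map_of_mem _ hr) Submodule.mem_top
    | add x _ y _ hx hy => exact Submodule.add_mem _ hx hy

/-- Pointwise slicing near a point. -/
theorem exists_sliced_pointwise [Algebra.FinitePresentation R A] (l : List A) :
    ∀ (M : Type u) [AddCommGroup M] [Module A M] [Module R M] [IsScalarTower R A M]
      [Module.FinitePresentation A M] (q : Ideal A) [q.IsPrime]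
      [Module.Flat R (LocalizedModule q.primeCompl M)],
      IsWeaklyRegular (LocalizedModule q.primeCompl M ⧸
        (q.comap (algebraMap R A)).map (algebraMap R A) •
          (⊤ : Submodule A (LocalizedModule q.primeCompl M))) l →
      ∃ g ∉ q, ∀ (q' : Ideal A) [q'.IsPrime], g ∉ q' →
        Sliced R l (LocalizedModule q'.primeCompl M) := by
  induction l with
  | nil =>
    intro M _ _ _ _ _ q _ _ _
    obtain ⟨_, ⟨g, rfl⟩, hg, hgsub⟩ :=
      PrimeSpectrum.isTopologicalBasis_basic_opens.exists_subset_of_mem_open
        (show (⟨q, ‹_›⟩ : PrimeSpectrum A) ∈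
          {q' : PrimeSpectrum A | Module.Flat R (LocalizedModule q'.asIdeal.primeCompl M)}
          from ‹Module.Flat R (LocalizedModule q.primeCompl M)›)
        FlatLocus.isOpen_flatLocus
    exact ⟨g, hg, fun q' hq' hgq' =>
      .nil _ (hgsub (show (⟨q', hq'⟩ : PrimeSpectrum A) ∈ _ from hgq'))⟩
  | cons h t ih =>
    intro M _ _ _ _ _ q _ _ hreg
    obtain ⟨h1, h2⟩ := (isWeaklyRegular_cons_iff _ h t).1 hreg
    let N := LocalizedModule q.primeCompl M
    let I := (q.comap (algebraMap R A)).map (algebraMap R A)
    obtain ⟨g₁, hg₁, hstep⟩ := exists_step M q h (fun z hz => by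
      rw [← mem_map_smul_top_iff (R := R) (A := A)] at hz ⊢
      rw [← Submodule.Quotient.mk_eq_zero] at hz ⊢
      apply h1
      show h • (Submodule.Quotient.mk z : N ⧸ I • (⊤ : Submodule A N)) = h • 0
      rw [smul_zero, ← Submodule.Quotient.mk_smul]
      exact hz)
    let C := M ⧸ LinearMap.range (LinearMap.lsmul A M h)
    haveI : Module.FinitePresentation A C :=
      Module.finitePresentation_of_surjective (LinearMap.range (LinearMap.lsmul A M h)).mkQ
        (Submodule.mkQ_surjective _)
        (by rw [Submodule.ker_mkQ, LinearMap.range_eq_map]; exact Module.Finite.fg_top.map _)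
    haveI := (hstep q hg₁).2.2
    haveI := isLocalizedModule_quot q.primeCompl (LocalizedModule.mkLinearMap q.primeCompl M) h
    let e := IsLocalizedModule.iso q.primeCompl (Submodule.mapQ
      (LinearMap.range (LinearMap.lsmul A M h)) (LinearMap.range (LinearMap.lsmul A N h))
      (LocalizedModule.mkLinearMap q.primeCompl M) _)
    obtain ⟨e'⟩ := nonempty_fibreQuotEquiv N I h
    have hC : IsWeaklyRegular (LocalizedModule q.primeCompl C ⧸
        I • (⊤ : Submodule A (LocalizedModule q.primeCompl C))) t :=
      ((e'.trans (Submodule.Quotient.equiv _ _ e.symm (by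
        rw [Submodule.map_smul'', Submodule.map_top, LinearEquiv.range]))).isWeaklyRegular_congr t).1 h2
    obtain ⟨g₂, hg₂, hrest⟩ := ih C q hC
    refine ⟨g₁ * g₂, fun hmem => ((‹q.IsPrime›).mem_or_mem hmem).elim hg₁ hg₂,
      fun q' hq' hg => ?_⟩
    have ha := fun h' => hg (Ideal.mul_mem_right _ _ h')
    have hb := fun h' => hg (Ideal.mul_mem_left _ _ h')
    obtain ⟨hf, hi, -⟩ := hstep q' ha
    haveI := isLocalizedModule_quot q'.primeCompl (LocalizedModule.mkLinearMap q'.primeCompl M) h
    exact .cons h t _ hf hi ((hrest q' hb).congr (IsLocalizedModule.iso q'.primeCompl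
      (Submodule.mapQ (LinearMap.range (LinearMap.lsmul A M h))
        (LinearMap.range (LinearMap.lsmul A (LocalizedModule q'.primeCompl M) h))
        (LocalizedModule.mkLinearMap q'.primeCompl M) _)))

/-- Pointwise slicing on a basic open gives slicing of the localization. -/
theorem sliced_away (g : A) (l : List A) :
    ∀ (M : Type u) [AddCommGroup M] [Module A M] [Module R M] [IsScalarTower R A M],
      (∀ (q' : Ideal A) [q'.IsPrime], g ∉ q' → Sliced R l (LocalizedModule q'.primeCompl M)) →
      Sliced R l (LocalizedModule (Submonoid.powers g) M) := by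
  induction l with
  | nil =>
    intro M _ _ _ _ H
    exact .nil _ (flat_away_of_pointwise g fun q hq hgq => by cases H q hgq with | nil _ h => exact h)
  | cons h t ih =>
    intro M _ _ _ _ H
    let L := LocalizedModule.mkLinearMap (Submonoid.powers g) M
    refine .cons h t _ (flat_away_of_pointwise g fun q hq hgq => by
      cases H q hgq with | cons _ _ _ hf _ _ => exact hf) ?_ ?_
    · suffices key : ∀ z, h • z = 0 → z = (0 : LocalizedModule (Submonoid.powers g) M) by
        intro a b hab
        exact sub_eq_zero.1 (key _ (by rw [smul_sub, sub_eq_zero]; exact hab))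
      intro z hz
      obtain ⟨⟨m, t'⟩, hm⟩ := IsLocalizedModule.surj (Submonoid.powers g) L z
      have hm0 : L (h • m) = 0 := by
        rw [map_smul, ← hm]
        show h • ((t' : A) • z) = 0
        rw [smul_comm, hz, smul_zero]
      obtain ⟨v, hv⟩ := (IsLocalizedModule.eq_zero_iff (Submonoid.powers g) L).1 hm0
      have hrad : g ∈ (Ideal.torsionOf A _ ((v : A) • m)).radical := by
        rw [Ideal.radical_eq_sInf, Ideal.mem_sInf]
        rintro q ⟨hq, hqp⟩
        by_contra hgq
        obtain ⟨s, hs⟩ : ∃ s : q.primeCompl, (s : A) • ((v : A) • m) = 0 := by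
          cases H q hgq with
          | cons _ _ _ _ hi _ =>
            apply (IsLocalizedModule.eq_zero_iff q.primeCompl
              (LocalizedModule.mkLinearMap q.primeCompl M)).1
            apply hi
            show h • _ = h • (0 : LocalizedModule q.primeCompl M)
            rw [smul_zero, ← map_smul, smul_comm]
            exact (congrArg _ hv).trans (map_zero _)
        exact s.2 (hq hs)
      obtain ⟨j, hj⟩ := hrad
      have hpw : (g ^ j * v * t' : A) ∈ Submonoid.powers g :=
        mul_mem (mul_mem ⟨j, rfl⟩ v.2) t'.2
      have hu := (Module.End.isUnit_iff _).1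
        (IsLocalizedModule.map_units (S := Submonoid.powers g) L ⟨_, hpw⟩)
      apply hu.1
      simp only [Module.algebraMap_end_apply, smul_zero]
      rw [mul_smul, show (t' : A) • z = L m from hm, mul_smul, ← map_smul, ← map_smul]
      exact (congrArg L hj).trans (map_zero L)
    · haveI := isLocalizedModule_quot (Submonoid.powers g) L h
      refine (ih (M ⧸ LinearMap.range (LinearMap.lsmul A M h)) fun q hq hgq => ?_).congr
        (IsLocalizedModule.iso (Submonoid.powers g)
          (Submodule.mapQ (LinearMap.range (LinearMap.lsmul A M h))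
            (LinearMap.range (LinearMap.lsmul A (LocalizedModule (Submonoid.powers g) M) h)) L _))
      haveI := isLocalizedModule_quot q.primeCompl (LocalizedModule.mkLinearMap q.primeCompl M) h
      cases H q hgq with
      | cons _ _ _ _ _ ht =>
        exact ht.congr (IsLocalizedModule.iso q.primeCompl
          (Submodule.mapQ (LinearMap.range (LinearMap.lsmul A M h))
            (LinearMap.range (LinearMap.lsmul A (LocalizedModule q.primeCompl M) h))
            (LocalizedModule.mkLinearMap q.primeCompl M) _)).symm

/-- Slicing by a sequence regular on the fibre, on a basic open. -/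
theorem exists_sliced [Algebra.FinitePresentation R A] (q : Ideal A) [q.IsPrime]
    [Module.Flat R (Localization.AtPrime q)] (l : List A)
    (hreg : IsWeaklyRegular (Localization.AtPrime q ⧸
      (q.comap (algebraMap R A)).map (algebraMap R A) •
        (⊤ : Submodule A (Localization.AtPrime q))) l) :
    ∃ g ∉ q, Sliced R l (Localization.Away g) := by
  let e := IsLocalizedModule.iso q.primeCompl (Algebra.linearMap A (Localization.AtPrime q))
  haveI : Module.Flat R (LocalizedModule q.primeCompl A) :=
    Module.Flat.of_linearEquiv (e.restrictScalars R)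
  have hreg' := ((Submodule.Quotient.equiv _
    ((q.comap (algebraMap R A)).map (algebraMap R A) •
      (⊤ : Submodule A (LocalizedModule q.primeCompl A))) e.symm (by
      rw [Submodule.map_smul'', Submodule.map_top, LinearEquiv.range])).isWeaklyRegular_congr l).1 hreg
  obtain ⟨g, hg, H⟩ := exists_sliced_pointwise (R := R) l A q hreg'
  exact ⟨g, hg, (sliced_away g l A H).congr
    (IsLocalizedModule.iso (Submonoid.powers g) (Algebra.linearMap A (Localization.Away g)))⟩

end Groth.Agent.FlatSlice
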