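import Mathlib
import Groth.Agent.FlatSlice.Seq

/-!
Slicing a morphism of schemes by a sequence regular on the fibre.
-/

namespace Groth.Agent.FlatSlice

open AlgebraicGeometry CategoryTheory RingTheory.Sequence TopologicalSpace
open scoped Pointwise

universe u

theorem Sliced.extendScalars {R A A' : Type u} [CommRing R] [CommRing A] [CommRing A'] [Algebra R A]
    [Algebra R A'] [Algebra A A'] [IsScalarTower R A A'] (l : List A) :
    ∀ (M : Type u) [AddCommGroup M] [Module A M] [Module A' M] [Module R M] [IsScalarTower R A M]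
      [IsScalarTower A A' M] [IsScalarTower R A' M],
      Sliced R l M → Sliced R (l.map (algebraMap A A')) M := by
  induction l with
  | nil =>
    intro M _ _ _ _ _ _ _ hs
    cases hs with
    | nil _ h => exact .nil _ h
  | cons h t ih =>
    intro M _ _ _ _ _ _ _ hs
    cases hs with
    | cons _ _ _ hf hi ht =>
      refine .cons _ _ _ hf ?_ ?_
      · intro a b hab
        apply hi
        simpa only [algebraMap_smul] using hab
      · apply ih
        refine ht.congr ((Submodule.quotEquivOfEq _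
          ((LinearMap.range (LinearMap.lsmul A' M (algebraMap A A' h))).restrictScalars A) ?_).trans
          (Submodule.Quotient.restrictScalarsEquiv A _))
        ext z
        simp only [Submodule.restrictScalars_mem, LinearMap.mem_range, LinearMap.lsmul_apply,
          algebraMap_smul]

theorem exists_sections {X : Scheme.{u}} (W : X.Opens) (x : X) (hx : x ∈ W)
    (hs : List (X.presheaf.stalk x)) :
    ∃ (U : X.Opens) (_ : IsAffineOpen U) (hxU : x ∈ U) (l : List Γ(X, U)), U ≤ W ∧
      l.map (X.presheaf.germ U x hxU) = hs := by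
  induction hs with
  | nil =>
    obtain ⟨_, ⟨U, hU, rfl⟩, hxU, hle⟩ :=
      X.isBasis_affineOpens.exists_subset_of_mem_open hx W.2
    exact ⟨U, hU, hxU, [], hle, rfl⟩
  | cons h t ih =>
    obtain ⟨U, hU, hxU, l, hle, hl⟩ := ih
    obtain ⟨W', hxW', s, hs⟩ := X.presheaf.germ_exist h
    obtain ⟨_, ⟨U', hU', rfl⟩, hxU', hle'⟩ :=
      X.isBasis_affineOpens.exists_subset_of_mem_open
        (show x ∈ U ⊓ W' from ⟨hxU, hxW'⟩) (U ⊓ W').2
    refine ⟨U', hU', hxU', X.presheaf.map (homOfLE fun y hy => (hle' hy).2).op s ::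
      l.map (X.presheaf.map (homOfLE fun y hy => (hle' hy).1).op), fun y hy => hle (hle' hy).1, ?_⟩
    rw [List.map_cons, List.map_map, ← hl, ← hs]
    congr 1
    · exact X.presheaf.germ_res_apply _ _ hxU' _
    · exact List.map_congr_left fun a _ => X.presheaf.germ_res_apply _ _ hxU' _

/-- Slicing data on an affine neighbourhood of a point. -/
theorem exists_sliced_open {X S : Scheme.{u}} (f : X ⟶ S) [LocallyOfFinitePresentation f] (x : X)
    (hflat : (f.stalkMap x).hom.Flat) (hs : List (X.presheaf.stalk x))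
    (hreg : IsWeaklyRegular (X.presheaf.stalk x ⧸
        Ideal.map (f.stalkMap x).hom (IsLocalRing.maximalIdeal (S.presheaf.stalk (f x))))
      (hs.map (Ideal.Quotient.mk
        (Ideal.map (f.stalkMap x).hom (IsLocalRing.maximalIdeal (S.presheaf.stalk (f x))))))) :
    ∃ (V : S.Opens) (_ : IsAffineOpen V) (U : X.Opens) (_ : IsAffineOpen U) (e : U ≤ f ⁻¹ᵁ V)
      (hx : x ∈ U) (l : List Γ(X, U)), l.map (X.presheaf.germ U x hx) = hs ∧
      letI : Algebra Γ(S, V) Γ(X, U) := (f.appLE V U e).hom.toAlgebra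
      Sliced Γ(S, V) l Γ(X, U) := by
  classical
  obtain ⟨_, ⟨V, hV, rfl⟩, hfx, -⟩ :=
    S.isBasis_affineOpens.exists_subset_of_mem_open (Set.mem_univ (f x)) isOpen_univ
  obtain ⟨U, hU, hxU, l, hUV, hl⟩ := exists_sections (f ⁻¹ᵁ V) x hfx hs
  letI : Algebra Γ(S, V) Γ(X, U) := (f.appLE V U hUV).hom.toAlgebra
  haveI : Algebra.FinitePresentation Γ(S, V) Γ(X, U) :=
    Scheme.Hom.finitePresentation_appLE f hV hU hUV
  let q := (hU.primeIdealOf ⟨x, hxU⟩).asIdeal
  let O := X.presheaf.stalk x
  let OS := S.presheaf.stalk (f x)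
  letI : Algebra Γ(X, U) O := X.presheaf.algebra_section_stalk ⟨x, hxU⟩
  haveI : IsLocalization.AtPrime O q := hU.isLocalization_stalk ⟨x, hxU⟩
  letI : Algebra Γ(S, V) OS := S.presheaf.algebra_section_stalk ⟨f x, hfx⟩
  haveI : IsLocalization.AtPrime OS (hV.primeIdealOf ⟨f x, hfx⟩).asIdeal :=
    hV.isLocalization_stalk ⟨f x, hfx⟩
  letI : Algebra OS O := (f.stalkMap x).hom.toAlgebra
  letI : Algebra Γ(S, V) O := ((algebraMap Γ(X, U) O).comp (algebraMap Γ(S, V) Γ(X, U))).toAlgebra
  haveI : IsScalarTower Γ(S, V) Γ(X, U) O := IsScalarTower.of_algebraMap_eq fun _ => rfl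
  haveI : IsScalarTower Γ(S, V) OS O := IsScalarTower.of_algebraMap_eq fun r => by
    show X.presheaf.germ U x hxU (f.appLE V U hUV r) = f.stalkMap x (S.presheaf.germ V (f x) hfx r)
    rw [Scheme.Hom.germ_stalkMap_apply]
    exact X.presheaf.germ_res_apply _ _ hxU _
  haveI : Module.Flat OS O := hflat
  haveI : Module.Flat Γ(S, V) OS :=
    IsLocalization.flat OS (hV.primeIdealOf ⟨f x, hfx⟩).asIdeal.primeCompl
  haveI : Module.Flat Γ(S, V) O := Module.Flat.trans Γ(S, V) OS O
  let eO : Localization.AtPrime q ≃ₐ[Γ(X, U)] O := IsLocalization.algEquiv q.primeCompl _ _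
  haveI : Module.Flat Γ(S, V) (Localization.AtPrime q) :=
    Module.Flat.of_linearEquiv (eO.toLinearEquiv.restrictScalars Γ(S, V))
  have hp : q.comap (algebraMap Γ(S, V) Γ(X, U)) = (hV.primeIdealOf ⟨f x, hfx⟩).asIdeal :=
    congrArg PrimeSpectrum.asIdeal (IsAffineOpen.comap_primeIdealOf_appLE V hV U hU hUV hxU)
  let J := Ideal.map (f.stalkMap x).hom (IsLocalRing.maximalIdeal OS)
  have hJ : J = ((q.comap (algebraMap Γ(S, V) Γ(X, U))).map (algebraMap Γ(S, V) Γ(X, U))).map
      (algebraMap Γ(X, U) O) := by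
    rw [Ideal.map_map, ← IsScalarTower.algebraMap_eq, hp, IsScalarTower.algebraMap_eq Γ(S, V) OS O,
      ← Ideal.map_map]
    rw [IsLocalization.AtPrime.map_eq_maximalIdeal (hV.primeIdealOf ⟨f x, hfx⟩).asIdeal OS]
    rfl
  -- the fibre as an `Γ(X, U)`-module
  have hreg' : IsWeaklyRegular (O ⧸ J) l := by
    have : hs.map (Ideal.Quotient.mk J) = l.map (algebraMap Γ(X, U) (O ⧸ J)) := by
      rw [← hl, List.map_map]
      rfl
    rw [← isWeaklyRegular_map_algebraMap_iff (O ⧸ J) (O ⧸ J) l, ← this]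
    exact hreg
  obtain ⟨g, hg, hsl⟩ := exists_sliced (R := Γ(S, V)) q l (by
    refine ((Submodule.Quotient.equiv _ (J.restrictScalars Γ(X, U)) eO.toLinearEquiv ?_).trans
      (Submodule.Quotient.restrictScalarsEquiv Γ(X, U) J)).isWeaklyRegular_congr l |>.2 hreg'
    rw [Submodule.map_smul'', Submodule.map_top, LinearEquiv.range, Ideal.smul_top_eq_map, hJ])
  have hxg : x ∈ X.basicOpen g := by
    rw [X.mem_basicOpen g x hxU]
    exact IsLocalization.map_units O (M := q.primeCompl) ⟨g, hg⟩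
  let A' := Γ(X, X.basicOpen g)
  let ρ := X.presheaf.map (homOfLE (X.basicOpen_le g)).op
  letI : Algebra Γ(X, U) A' := ρ.hom.toAlgebra
  haveI : IsLocalization.Away g A' := hU.isLocalization_basicOpen g
  letI : Algebra Γ(S, V) A' :=
    (f.appLE V (X.basicOpen g) ((X.basicOpen_le g).trans hUV)).hom.toAlgebra
  haveI : IsScalarTower Γ(S, V) Γ(X, U) A' := IsScalarTower.of_algebraMap_eq' (by
    show (f.appLE V (X.basicOpen g) _).hom = ρ.hom.comp (f.appLE V U hUV).hom
    rw [← CommRingCat.hom_comp, Scheme.Hom.appLE_map])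
  refine ⟨V, hV, X.basicOpen g, hU.basicOpen g, (X.basicOpen_le g).trans hUV, hxg, l.map ρ, ?_, ?_⟩
  · rw [List.map_map, ← hl]
    exact List.map_congr_left fun a _ => X.presheaf.germ_res_apply _ _ hxg _
  · exact Sliced.extendScalars (A' := A') l A' (hsl.congr
      (IsLocalization.algEquiv (Submonoid.powers g) (Localization.Away g) A').toLinearEquiv)

end Groth.Agent.FlatSlice
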