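import Mathlib
import Groth.Prelude.Def_Mor2
import Groth.Agent.FlatSlice.Scheme
import Groth.Agent.FpqcDescent.IdealComap

/-!
The closed subscheme cut out by a slicing sequence.
-/

namespace Groth.Agent.FlatSlice

open AlgebraicGeometry CategoryTheory RingTheory.Sequence

universe u

theorem flat_lfp_quotient {X S : Scheme.{u}} (f : X ⟶ S) [LocallyOfFinitePresentation f]
    {V : S.Opens} (hV : IsAffineOpen V) {U : X.Opens} (hU : IsAffineOpen U) (e : U ≤ f ⁻¹ᵁ V)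
    (l : List Γ(X, U)) (hl : letI : Algebra Γ(S, V) Γ(X, U) := (f.appLE V U e).hom.toAlgebra
      Sliced Γ(S, V) l Γ(X, U)) :
    Flat (Spec.map (CommRingCat.ofHom (Ideal.Quotient.mk (Ideal.ofList l))) ≫ hU.fromSpec ≫ f) ∧
      LocallyOfFinitePresentation
        (Spec.map (CommRingCat.ofHom (Ideal.Quotient.mk (Ideal.ofList l))) ≫ hU.fromSpec ≫ f) := by
  letI : Algebra Γ(S, V) Γ(X, U) := (f.appLE V U e).hom.toAlgebra
  rw [← IsAffineOpen.SpecMap_appLE_fromSpec f hV hU e, ← Category.assoc, ← Spec.map_comp]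
  haveI : Module.Flat Γ(S, V) (Γ(X, U) ⧸ Ideal.ofList l) := by
    haveI := hl.flat_quotient
    exact Module.Flat.of_linearEquiv ((Submodule.quotEquivOfEq _ _
      (show Ideal.ofList l = Ideal.ofList l • (⊤ : Submodule Γ(X, U) Γ(X, U)) by
        rw [smul_eq_mul, Ideal.mul_top])).restrictScalars Γ(S, V))
  haveI : Algebra.FinitePresentation Γ(S, V) Γ(X, U) :=
    Scheme.Hom.finitePresentation_appLE f hV hU e
  haveI : Algebra.FinitePresentation Γ(S, V) (Γ(X, U) ⧸ Ideal.ofList l) :=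
    Algebra.FinitePresentation.quotient (Submodule.fg_span (l.finite_toSet))
  let φ : Γ(S, V) ⟶ CommRingCat.of (Γ(X, U) ⧸ Ideal.ofList l) :=
    f.appLE V U e ≫ CommRingCat.ofHom (Ideal.Quotient.mk (Ideal.ofList l))
  haveI : Flat (Spec.map φ) := (HasRingHomProperty.Spec_iff (P := @Flat)).2
    ((RingHom.flat_algebraMap_iff (R := Γ(S, V)) (S := Γ(X, U) ⧸ Ideal.ofList l)).2 ‹_›)
  haveI : LocallyOfFinitePresentation (Spec.map φ) :=
    (HasRingHomProperty.Spec_iff (P := @LocallyOfFinitePresentation)).2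
      ((RingHom.finitePresentation_algebraMap (A := Γ(S, V)) (B := Γ(X, U) ⧸ Ideal.ofList l)).2 ‹_›)
  exact ⟨inferInstance, inferInstance⟩

/-- Global sections along an isomorphism with a spectrum. -/
noncomputable abbrev secIso {A : CommRingCat.{u}} {Y : Scheme.{u}} (e : Spec A ≅ Y) : A ≅ Γ(Y, ⊤) :=
  (Scheme.ΓSpecIso A).symm ≪≫ (Scheme.Γ.mapIso e.op).symm

theorem ker_ideal_specQuotient {A : CommRingCat.{u}} {Y : Scheme.{u}} [IsAffine Y]
    (e : Spec A ≅ Y) (I : Ideal A) :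
    (Spec.map (CommRingCat.ofHom (Ideal.Quotient.mk I)) ≫ e.hom).ker.ideal
        (⟨⊤, isAffineOpen_top Y⟩ : Y.affineOpens) =
      I.map (secIso e).commRingCatIsoToRingEquiv.toRingHom := by
  let ψ : A ≅ Γ(Y, ⊤) := secIso e
  let ψr : A ≃+* Γ(Y, ⊤) := ψ.commRingCatIsoToRingEquiv
  let i := Spec.map (CommRingCat.ofHom (Ideal.Quotient.mk I)) ≫ e.hom
  haveI : IsClosedImmersion (Spec.map (CommRingCat.ofHom (Ideal.Quotient.mk I))) :=
    IsClosedImmersion.spec_of_surjective _ Ideal.Quotient.mk_surjective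
  show i.ker.ideal (⟨⊤, isAffineOpen_top Y⟩ : Y.affineOpens) = I.map (ψr : A →+* Γ(Y, ⊤))
  rw [Scheme.Hom.ker_apply]
  have e1 : i.app ⊤ = ψ.inv ≫ CommRingCat.ofHom (Ideal.Quotient.mk I) ≫
      (Scheme.ΓSpecIso _).inv := by
    show i.appTop = (e.hom.appTop ≫ (Scheme.ΓSpecIso A).hom) ≫ _
    rw [Scheme.Hom.comp_appTop, Category.assoc, Scheme.ΓSpecIso_inv_naturality]
    simp
  ext y
  obtain ⟨a, rfl⟩ := ψr.surjective y
  rw [RingHom.mem_ker, e1, Ideal.mem_map_iff_of_surjective (ψr : A →+* Γ(Y, ⊤)) ψr.surjective]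
  show ((Scheme.ΓSpecIso (CommRingCat.of (A ⧸ I))).inv.hom (Ideal.Quotient.mk I (ψ.inv.hom (ψr a)))) = 0 ↔ _
  rw [show ψ.inv.hom (ψr a) = a from ψr.symm_apply_apply a]
  refine ((map_eq_zero_iff _
    (ConcreteCategory.bijective_of_isIso (Scheme.ΓSpecIso _).inv).1)).trans ?_
  exact ⟨fun h => ⟨a, Ideal.Quotient.eq_zero_iff_mem.1 h, rfl⟩,
    fun ⟨b, hb, hba⟩ => Ideal.Quotient.eq_zero_iff_mem.2 (ψr.injective hba ▸ hb)⟩

theorem ker_ideal_ne_top {Z Y : Scheme.{u}} (i : Z ⟶ Y) [QuasiCompact i] (z : Z) (U : Y.affineOpens)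
    (hz : i z ∈ U.1) : i.ker.ideal U ≠ ⊤ := by
  intro htop
  have h1 : (1 : Γ(Y, U.1)) ∈ i.ker.ideal U := htop ▸ Submodule.mem_top
  rw [Scheme.Hom.ker_apply, RingHom.mem_ker, map_one] at h1
  have h2 := congrArg (Z.presheaf.germ (i ⁻¹ᵁ U.1) z hz) h1
  rw [map_one, map_zero] at h2
  exact one_ne_zero h2

theorem isWeaklyRegular_map {A B : Type u} [CommRing A] [CommRing B] (ψ : A ≃+* B) (l : List A)
    (hl : IsWeaklyRegular A l) : IsWeaklyRegular B (l.map ψ) := by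
  refine (AddEquiv.isWeaklyRegular_congr (e := ψ.toAddEquiv) ?_).1 hl
  rw [List.forall₂_map_right_iff, List.forall₂_same]
  exact fun a _ x => map_mul ψ a x

theorem isRegularClosedImmersion_specQuotient {A : CommRingCat.{u}} {Y : Scheme.{u}}
    (e : Spec A ≅ Y) (l : List A) (hl : IsWeaklyRegular A l) :
    Mor2.IsRegularClosedImmersion
      (Spec.map (CommRingCat.ofHom (Ideal.Quotient.mk (Ideal.ofList l))) ≫ e.hom) := by
  haveI : IsAffine Y := IsAffine.of_isIso e.inv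
  haveI : IsClosedImmersion (Spec.map (CommRingCat.ofHom (Ideal.Quotient.mk (Ideal.ofList l)))) :=
    IsClosedImmersion.spec_of_surjective _ Ideal.Quotient.mk_surjective
  refine ⟨inferInstance, fun z => ⟨⊤, isAffineOpen_top Y, Set.mem_univ _, ?_⟩⟩
  have hker := ker_ideal_specQuotient e (Ideal.ofList l)
  rw [Ideal.map_ofList] at hker
  refine ⟨_, ⟨isWeaklyRegular_map _ l hl, ?_⟩, hker⟩
  rw [smul_eq_mul, Ideal.mul_top]
  intro htop
  exact ker_ideal_ne_top _ z ⟨⊤, isAffineOpen_top Y⟩ (Set.mem_univ _) (hker.trans htop.symm)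

open Limits TensorProduct in
/-- The quotient by a slicing sequence stays a regular closed immersion after base change. -/
theorem isRegularClosedImmersion_baseChange {X S : Scheme.{u}} (f : X ⟶ S)
    {V : S.Opens} (hV : IsAffineOpen V) {U : X.Opens} (hU : IsAffineOpen U) (e : U ≤ f ⁻¹ᵁ V)
    (l : List Γ(X, U)) (hl : letI : Algebra Γ(S, V) Γ(X, U) := (f.appLE V U e).hom.toAlgebra
      Sliced Γ(S, V) l Γ(X, U))
    {S' : Scheme.{u}} (g : S' ⟶ S)
    (k₁ : Spec (CommRingCat.of (Γ(X, U) ⧸ Ideal.ofList l)) ⟶ S) (k₂ : (U : Scheme.{u}) ⟶ S)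
    (hk₂ : k₂ = U.ι ≫ f)
    (hk : k₁ ≫ 𝟙 S = (Spec.map (CommRingCat.ofHom (Ideal.Quotient.mk (Ideal.ofList l))) ≫
      hU.isoSpec.inv) ≫ k₂)
    (hg : g ≫ 𝟙 S = 𝟙 S' ≫ g) :
    Mor2.IsRegularClosedImmersion (pullback.map k₁ g k₂ g
      (Spec.map (CommRingCat.ofHom (Ideal.Quotient.mk (Ideal.ofList l))) ≫ hU.isoSpec.inv)
      (𝟙 S') (𝟙 S) hk hg) := by
  letI : Algebra Γ(S, V) Γ(X, U) := (f.appLE V U e).hom.toAlgebra
  subst hk₂
  set i := Spec.map (CommRingCat.ofHom (Ideal.Quotient.mk (Ideal.ofList l))) ≫ hU.isoSpec.inv with hi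
  haveI : IsClosedImmersion i := by
    haveI := IsClosedImmersion.spec_of_surjective
      (CommRingCat.ofHom (Ideal.Quotient.mk (Ideal.ofList l))) Ideal.Quotient.mk_surjective
    rw [hi]
    infer_instance
  let i' := pullback.map k₁ g (U.ι ≫ f) g i (𝟙 S') (𝟙 S) hk hg
  have sq : IsPullback i' (pullback.fst k₁ g) (pullback.fst (U.ι ≫ f) g) i := by
    have e1 : i' ≫ pullback.snd (U.ι ≫ f) g = pullback.snd k₁ g :=
      (pullback.lift_snd _ _ _).trans (Category.comp_id _)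
    refine (IsPullback.of_bot ?_ (pullback.lift_fst _ _ _).symm
      (IsPullback.of_hasPullback (U.ι ≫ f) g)).flip
    rw [e1, ← (Category.comp_id k₁).symm.trans hk]
    exact IsPullback.of_hasPullback k₁ g
  haveI : IsClosedImmersion i' := MorphismProperty.of_isPullback sq.flip inferInstance
  refine ⟨inferInstance, fun z => ?_⟩
  let w := i' z
  let s' := pullback.snd (U.ι ≫ f) g w
  have hfst : ∀ p, (U.ι ≫ f) (pullback.fst (U.ι ≫ f) g p) = g (pullback.snd (U.ι ≫ f) g p) := fun p => by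
    rw [← Scheme.Hom.comp_apply, ← Scheme.Hom.comp_apply, pullback.condition]
  have hs' : g s' ∈ V := by
    rw [← hfst]
    exact e (pullback.fst (U.ι ≫ f) g w).2
  obtain ⟨_, ⟨W', hW', rfl⟩, hsW, hWV⟩ :=
    S'.isBasis_affineOpens.exists_subset_of_mem_open (show s' ∈ g ⁻¹ᵁ V from hs') (g ⁻¹ᵁ V).2
  letI : Algebra Γ(S, V) Γ(S', W') := (g.appLE V W' hWV).hom.toAlgebra
  let T := Γ(X, U) ⊗[Γ(S, V)] Γ(S', W')
  let j : Spec (CommRingCat.of T) ⟶ pullback (U.ι ≫ f) g :=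
    (pullbackSpecIso Γ(S, V) Γ(X, U) Γ(S', W')).inv ≫
      pullback.map _ _ (U.ι ≫ f) g hU.isoSpec.inv hW'.fromSpec hV.fromSpec
        (by
          rw [← Category.assoc]
          exact IsAffineOpen.SpecMap_appLE_fromSpec f hV hU e)
        (IsAffineOpen.SpecMap_appLE_fromSpec g hV hW' hWV)
  haveI : IsOpenImmersion j := inferInstance
  have hwj : w ∈ j.opensRange := by
    show w ∈ Set.range j
    rw [Scheme.Hom.comp_base, TopCat.coe_comp, Set.range_comp,
      Set.range_eq_univ.2 ((pullbackSpecIso Γ(S, V) Γ(X, U) Γ(S', W')).inv.surjective),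
      Set.image_univ, Scheme.Pullback.range_map]
    refine ⟨⟨hU.isoSpec.hom (pullback.fst (U.ι ≫ f) g w), ?_⟩, ?_⟩
    · rw [← Scheme.Hom.comp_apply, Iso.hom_inv_id]
      rfl
    · rw [hW'.range_fromSpec]
      exact hsW
  let O := j.opensRange
  have hO : IsAffineOpen O := isAffineOpen_opensRange j
  refine ⟨O, hO, hwj, ?_⟩
  haveI : IsAffine (U : Scheme.{u}) := hU
  have hle : O ≤ pullback.fst (U.ι ≫ f) g ⁻¹ᵁ (⊤ : (U : Scheme.{u}).Opens) := le_top
  let ψU : Γ(X, U) ≅ Γ(U, ⊤) :=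
    (Scheme.ΓSpecIso Γ(X, U)).symm ≪≫ (Scheme.Γ.mapIso hU.isoSpec.symm.op).symm
  let θ : Γ(X, U) ⟶ Γ(pullback (U.ι ≫ f) g, O) :=
    ψU.hom ≫ (pullback.fst (U.ι ≫ f) g).appLE ⊤ O hle
  have hker : i'.ker.ideal ⟨O, hO⟩ = Ideal.ofList (l.map θ.hom) := by
    have h1 : i'.ker = i.ker.comap (pullback.fst (U.ι ≫ f) g) := by
      rw [← Scheme.IdealSheafData.ker_fst_of_isClosedImmersion, ← sq.isoPullback_hom_fst,
        Scheme.Hom.ker_comp_of_isIso]
    rw [h1, FpqcDescent.ideal_comap i.ker (pullback.fst (U.ι ≫ f) g) ⟨⊤, isAffineOpen_top _⟩ ⟨O, hO⟩ hle,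
      hi, show (Spec.map (CommRingCat.ofHom (Ideal.Quotient.mk (Ideal.ofList l))) ≫
        hU.isoSpec.inv).ker.ideal (⟨⊤, isAffineOpen_top _⟩ : (U : Scheme.{u}).affineOpens) = _ from
        ker_ideal_specQuotient hU.isoSpec.symm (Ideal.ofList l), Ideal.map_map, Ideal.map_ofList]
    rfl
  refine ⟨l.map θ.hom, ⟨?_, ?_⟩, hker⟩
  · have hT : IsWeaklyRegular T l := hl.isWeaklyRegular_tensor Γ(S', W')
    let ψO : CommRingCat.of T ≅ Γ(pullback (U.ι ≫ f) g, O) :=
      (Scheme.ΓSpecIso _).symm ≪≫ (Scheme.Γ.mapIso (Scheme.Hom.isoOpensRange j).op).symm ≪≫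
        (pullback (U.ι ≫ f) g).presheaf.mapIso (eqToIso (show O = O.ι ''ᵁ ⊤ by simp)).op
    have hθ : θ = CommRingCat.ofHom (algebraMap Γ(X, U) T) ≫ ψO.hom := by
      have hjfst : j ≫ pullback.fst (U.ι ≫ f) g =
          Spec.map (CommRingCat.ofHom (algebraMap Γ(X, U) T)) ≫ hU.isoSpec.inv := by
        simp only [j, Category.assoc, pullback.lift_fst, pullbackSpecIso_inv_fst'_assoc]
      have hjr : (Scheme.Hom.isoOpensRange j).inv ≫ j = O.ι := Scheme.Hom.isoOpensRange_inv_comp j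
      have key : (pullback.fst (U.ι ≫ f) g).appLE ⊤ O hle =
          hU.isoSpec.inv.appTop ≫ (Spec.map (CommRingCat.ofHom (algebraMap Γ(X, U) T))).appTop ≫
          (Scheme.Hom.isoOpensRange j).inv.appTop ≫
          (pullback (U.ι ≫ f) g).presheaf.map (eqToHom (show O = O.ι ''ᵁ ⊤ by simp)).op := by
        rw [← Scheme.Hom.comp_appTop_assoc, ← Scheme.Hom.comp_appTop_assoc,
          ← hjfst, ← Category.assoc, hjr, Scheme.Hom.comp_appTop]
        simp [Scheme.Hom.appLE, Scheme.Opens.ι_appTop]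
        refine congrArg (_ ≫ ·) ?_
        exact (congrArg _ (Subsingleton.elim _ _)).trans (Functor.map_comp _ _ _)
      simp only [θ, key, ψU, ψO, Iso.trans_hom, Iso.symm_hom]
      simp only [Category.assoc, Functor.mapIso_inv, Iso.op_inv, Scheme.Γ_map, Quiver.Hom.unop_op,
        Iso.symm_inv]
      rw [← Scheme.Hom.comp_appTop_assoc, Iso.inv_hom_id, Scheme.Hom.id_appTop, Category.id_comp,
        ← Scheme.ΓSpecIso_inv_naturality_assoc]
      simp
      rfl
    let ψOr : T ≃+* Γ(pullback (U.ι ≫ f) g, O) := ψO.commRingCatIsoToRingEquiv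
    have : l.map θ.hom = (l.map (algebraMap Γ(X, U) T)).map ψOr := by
      rw [List.map_map, hθ]
      rfl
    rw [this]
    exact isWeaklyRegular_map ψOr _ ((isWeaklyRegular_map_algebraMap_iff T T l).2 hT)
  · rw [smul_eq_mul, Ideal.mul_top]
    intro htop
    exact ker_ideal_ne_top i' z ⟨O, hO⟩ hwj (hker.trans htop.symm)

/-- A point at which the sequence is regular on the fibre lies on the slice. -/
theorem mem_range_specQuotient {X : Scheme.{u}} {U : X.Opens} (hU : IsAffineOpen U) (x : U)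
    (l : List Γ(X, U)) (hs : List (X.presheaf.stalk x.1))
    (hl : l.map (X.presheaf.germ U x.1 x.2) = hs) {B : CommRingCat.{u}} (m : Ideal B)
    (φ : B →+* X.presheaf.stalk x.1)
    (hreg : RingTheory.Sequence.IsRegular (X.presheaf.stalk x.1 ⧸ Ideal.map φ m)
      (hs.map (Ideal.Quotient.mk (Ideal.map φ m)))) :
    x.1 ∈ Set.range (Spec.map (CommRingCat.ofHom (Ideal.Quotient.mk (Ideal.ofList l))) ≫ hU.fromSpec) := by
  letI : Algebra Γ(X, U) (X.presheaf.stalk x.1) := X.presheaf.algebra_section_stalk x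
  haveI : IsLocalization.AtPrime (X.presheaf.stalk x.1) (hU.primeIdealOf x).asIdeal :=
    hU.isLocalization_stalk x
  have hle : Ideal.ofList l ≤ (hU.primeIdealOf x).asIdeal := by
    rw [Ideal.span_le]
    intro a ha
    by_contra hna
    have hu : IsUnit (X.presheaf.germ U x.1 x.2 a) :=
      IsLocalization.map_units _ (M := (hU.primeIdealOf x).asIdeal.primeCompl) ⟨a, hna⟩
    apply hreg.top_ne_smul
    symm
    rw [smul_eq_mul, Ideal.mul_top]
    refine Ideal.eq_top_of_isUnit_mem _ (Ideal.subset_span ?_) (hu.map (Ideal.Quotient.mk (Ideal.map φ m)))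
    exact List.mem_map.2 ⟨_, hl ▸ List.mem_map.2 ⟨a, ha, rfl⟩, rfl⟩
  obtain ⟨y, hy⟩ : hU.primeIdealOf x ∈
      Set.range (PrimeSpectrum.comap (Ideal.Quotient.mk (Ideal.ofList l))) := by
    rw [range_comap_of_surjective _ _ Ideal.Quotient.mk_surjective, Ideal.mk_ker]
    exact (PrimeSpectrum.mem_zeroLocus _ _).2 hle
  refine ⟨y, ?_⟩
  rw [Scheme.Hom.comp_apply]
  exact (congrArg hU.fromSpec hy).trans (hU.fromSpec_primeIdealOf x)

end Groth.Agent.FlatSlice
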