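import Mathlib
import Groth.Prelude.Def_MoreMor
import Groth.Agent.Depth.CM
import Groth.Agent.Depth.SeqDepth
import Groth.Agent.DivPts.SectionFibre
import Groth.Agent.FlatSlice.Spec

/-!
A Cohen–Macaulay local ring has a regular sequence cutting out the closed point.
-/

namespace Groth.Agent.FlatSlice

open RingTheory.Sequence IsLocalRing LocCoh

universe u

theorem exists_regular_radical (F : Type u) [CommRing F] [IsLocalRing F]
    [IsCohenMacaulayLocalRing F] :
    ∃ rs : List F, (∀ r ∈ rs, r ∈ maximalIdeal F) ∧ IsWeaklyRegular F rs ∧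
      ∀ P : Ideal F, P.IsPrime → Ideal.ofList rs ≤ P → P = maximalIdeal F := by
  have hne := Depth.maximalIdeal_smul_top_ne_top (R := F) (M := F)
  obtain ⟨d, hd⟩ := Depth.exists_natCast_eq_idealDepth hne
  obtain ⟨rs, hlen, hmem, hreg⟩ := (Depth.le_idealDepth_iff_exists hne).1 hd.ge
  refine ⟨rs, hmem, hreg, fun P hP hle => ?_⟩
  have hI := (Depth.idealDepth_ofList_eq_length_iff (M := F) rs hmem).2 hreg
  have h1 := Depth.supportDim_eq_quotient_add_idealDepth F Depth.isCohenMacaulayModule_self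
    (Depth.ofList_le hmem)
  rw [hI, hlen, Module.supportDim_self_eq_ringKrullDim, Depth.ringKrullDim_eq_depth] at h1
  have hd' : LocCoh.depth F F = d := hd
  rw [hd'] at h1
  have hS : ∀ p : PrimeSpectrum F, Ideal.ofList rs ≤ p.asIdeal →
      p ∈ Module.support F (F ⧸ Ideal.ofList rs • (⊤ : Submodule F F)) := fun p hp => by
    rw [Module.support_quotient]
    exact ⟨Module.mem_support_iff.2 inferInstance, hp⟩
  haveI : Nontrivial (F ⧸ Ideal.ofList rs • (⊤ : Submodule F F)) :=
    Module.nonempty_support_iff.1 ⟨⟨P, hP⟩, hS _ hle⟩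
  obtain ⟨k, hk⟩ := Depth.exists_natCast_eq_supportDim (R := F)
    (M := F ⧸ Ideal.ofList rs • (⊤ : Submodule F F))
  rw [hk] at h1
  have hk0 : k = 0 := by
    have h2 : d = k + d := by exact_mod_cast h1
    omega
  rw [hk0] at hk
  have hmax := Order.krullDim_nonpos_iff_forall_isMax.1
    (show Order.krullDim (Module.support F (F ⧸ Ideal.ofList rs • (⊤ : Submodule F F))) ≤ 0 from
      hk.trans_le (by simp))
  have := hmax ⟨⟨P, hP⟩, hS _ hle⟩ (b := ⟨⟨maximalIdeal F, inferInstance⟩, hS _ (Depth.ofList_le hmem)⟩)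
    (IsLocalRing.le_maximalIdeal hP.ne_top)
  exact le_antisymm (IsLocalRing.le_maximalIdeal hP.ne_top) this

open AlgebraicGeometry CategoryTheory RingTheory.Sequence Limits

/-- The local ring of a fibre is the quotient of the local ring by the maximal ideal of the base. -/
theorem exists_fibre_stalk_hom {X S : Scheme.{u}} (f : X ⟶ S) (y : S) (w : f.fiber y) (z : X)
    (hz : z = f.fiberι y w) :
    ∃ π : X.presheaf.stalk z →+* (f.fiber y).presheaf.stalk w, Function.Surjective π ∧
      RingHom.ker π = Ideal.map (f.stalkMap z).hom (IsLocalRing.maximalIdeal (S.presheaf.stalk (f z))) := by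
  subst hz
  refine ⟨((f.fiberι y).stalkMap w).hom, (f.fiberι y).stalkMap_surjective w,
    le_antisymm (DivPts.ker_fiberι_stalkMap_le f y w) (Ideal.map_le_iff_le_comap.2 fun a ha => ?_)⟩
  exact DivPts.stalkMap_fiberι_eq_zero f y w ha

/-- Data cutting a Cohen–Macaulay fibre down to a point. -/
theorem exists_cm_sequence {X S : Scheme.{u}} (f : X ⟶ S) (x : X) (hcm : MoreMor.IsCMAt f x) :
    ∃ hs : List (X.presheaf.stalk x), (∀ h ∈ hs, h ∈ IsLocalRing.maximalIdeal _) ∧
      IsWeaklyRegular (X.presheaf.stalk x ⧸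
          Ideal.map (f.stalkMap x).hom (IsLocalRing.maximalIdeal (S.presheaf.stalk (f x))))
        (hs.map (Ideal.Quotient.mk
          (Ideal.map (f.stalkMap x).hom (IsLocalRing.maximalIdeal (S.presheaf.stalk (f x)))))) ∧
      ∀ P : Ideal (X.presheaf.stalk x), P.IsPrime →
        Ideal.map (f.stalkMap x).hom (IsLocalRing.maximalIdeal (S.presheaf.stalk (f x))) ≤ P →
        Ideal.ofList hs ≤ P → P = IsLocalRing.maximalIdeal _ := by
  haveI := hcm.2
  obtain ⟨π, hπ, hker⟩ := exists_fibre_stalk_hom f (f x) (f.asFiber x) x (f.fiberι_asFiber x).symm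
  haveI : IsLocalHom π := IsLocalHom.of_surjective π hπ
  obtain ⟨rs, hmem, hreg, hrad⟩ := exists_regular_radical ((f.fiber (f x)).presheaf.stalk (f.asFiber x))
  let s := Function.surjInv hπ
  have hs : (rs.map s).map π = rs := by
    rw [List.map_map, (Function.rightInverse_surjInv hπ).comp_eq_id, List.map_id]
  refine ⟨rs.map s, ?_, ?_, fun P hP hJP hsP => ?_⟩
  · intro h hh
    obtain ⟨r, hr, rfl⟩ := List.mem_map.1 hh
    intro hu
    refine hmem r hr ?_
    have := hu.map π
    rwa [Function.surjInv_eq hπ] at this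
  · let e := (Ideal.quotEquivOfEq hker.symm).trans (RingHom.quotientKerEquivOfSurjective hπ)
    have he : ∀ a, e.symm (π a) = Ideal.Quotient.mk _ a := fun a => by
      rw [RingEquiv.symm_apply_eq]; rfl
    have := isWeaklyRegular_map e.symm rs hreg
    rw [← hs, List.map_map] at this
    rwa [show List.map (⇑e.symm ∘ ⇑π) (rs.map s) = (rs.map s).map (Ideal.Quotient.mk _) from
      List.map_congr_left (fun a _ => he a)] at this
  · rw [← hker] at hJP
    have hP' := Ideal.map_isPrime_of_surjective hπ hJP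
    have := hrad _ hP' (by rw [← hs, ← Ideal.map_ofList]; exact Ideal.map_mono hsP)
    refine (IsLocalRing.eq_maximalIdeal ?_)
    have hmax : (P.map π).IsMaximal := this ▸ inferInstance
    have := Ideal.comap_map_of_surjective π hπ P
    rw [← RingHom.ker_eq_comap_bot, sup_eq_left.2 hJP] at this
    rw [← this]
    exact Ideal.comap_isMaximal_of_surjective π hπ

/-- The zero locus of a sequence cutting the fibre down to a point is quasi-finite there. -/
theorem eq_of_specializes {X S : Scheme.{u}} (f : X ⟶ S) (x : X) {V : S.Opens} (hV : IsAffineOpen V)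
    {U : X.Opens} (hU : IsAffineOpen U) (e : U ≤ f ⁻¹ᵁ V) (hxU : x ∈ U) (l : List Γ(X, U))
    (hs : List (X.presheaf.stalk x)) (hl : l.map (X.presheaf.germ U x hxU) = hs)
    (hrad : ∀ P : Ideal (X.presheaf.stalk x), P.IsPrime →
        Ideal.map (f.stalkMap x).hom (IsLocalRing.maximalIdeal (S.presheaf.stalk (f x))) ≤ P →
        Ideal.ofList hs ≤ P → P = IsLocalRing.maximalIdeal _)
    (q' : PrimeSpectrum Γ(X, U)) (hlq : Ideal.ofList l ≤ q'.asIdeal)
    (hspec : hU.fromSpec q' ⤳ x) (hf : f (hU.fromSpec q') = f x) : hU.fromSpec q' = x := by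
  let φ := f.appLE V U e
  have hfx : f x ∈ V := e hxU
  let O := X.presheaf.stalk x
  let q := hU.primeIdealOf ⟨x, hxU⟩
  letI : Algebra Γ(X, U) O := X.presheaf.algebra_section_stalk ⟨x, hxU⟩
  haveI : IsLocalization.AtPrime O q.asIdeal := hU.isLocalization_stalk ⟨x, hxU⟩
  have hq : hU.fromSpec q = x := hU.fromSpec_primeIdealOf _
  have hle : q'.asIdeal ≤ q.asIdeal := by
    rw [← hq] at hspec
    exact (PrimeSpectrum.le_iff_specializes _ _).2
      ((hU.fromSpec.isOpenEmbedding.isInducing.specializes_iff).1 hspec)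
  have hcomap : ∀ p : PrimeSpectrum Γ(X, U),
      hV.fromSpec (PrimeSpectrum.comap φ.hom p) = f (hU.fromSpec p) := fun p =>
    congr($(IsAffineOpen.SpecMap_appLE_fromSpec f hV hU e) p)
  have hp : q'.asIdeal.comap φ.hom = q.asIdeal.comap φ.hom := by
    have := hV.fromSpec.isOpenEmbedding.injective
      ((hcomap q').trans (hf.trans ((congrArg f hq).symm.trans (hcomap q).symm)))
    exact congrArg PrimeSpectrum.asIdeal this
  letI : Algebra Γ(S, V) (S.presheaf.stalk (f x)) := S.presheaf.algebra_section_stalk ⟨f x, hfx⟩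
  haveI : IsLocalization.AtPrime (S.presheaf.stalk (f x)) (hV.primeIdealOf ⟨f x, hfx⟩).asIdeal :=
    hV.isLocalization_stalk ⟨f x, hfx⟩
  have hdisj : Disjoint (q.asIdeal.primeCompl : Set Γ(X, U)) q'.asIdeal :=
    Set.disjoint_left.2 fun a ha ha' => ha (hle ha')
  have hP := IsLocalization.isPrime_of_isPrime_disjoint q.asIdeal.primeCompl O q'.asIdeal q'.2 hdisj
  have hPc := IsLocalization.comap_map_of_isPrime_disjoint q.asIdeal.primeCompl O q'.2 hdisj
  have hpq : (hV.primeIdealOf ⟨f x, hfx⟩).asIdeal = q.asIdeal.comap φ.hom :=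
    (congrArg PrimeSpectrum.asIdeal (IsAffineOpen.comap_primeIdealOf_appLE V hV U hU e hxU)).symm
  have hmaxP := hrad _ hP (by
    rw [Ideal.map_le_iff_le_comap, ← IsLocalization.AtPrime.map_eq_maximalIdeal
      (hV.primeIdealOf ⟨f x, hfx⟩).asIdeal (S.presheaf.stalk (f x)), Ideal.map_le_iff_le_comap,
      hpq, ← hp]
    intro a ha
    have : (f.stalkMap x) (S.presheaf.germ V (f x) hfx a) = X.presheaf.germ U x hxU (φ a) := by
      rw [Scheme.Hom.germ_stalkMap_apply]
      exact (X.presheaf.germ_res_apply _ _ hxU _).symm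
    show (f.stalkMap x) (S.presheaf.germ V (f x) hfx a) ∈ q'.asIdeal.map (algebraMap Γ(X, U) O)
    rw [this]
    exact Ideal.mem_map_of_mem _ ha) (by
    rw [← hl, ← Ideal.map_ofList]
    exact Ideal.map_mono hlq)
  rw [hmaxP] at hPc
  rw [← hq]
  congr 1
  apply PrimeSpectrum.ext
  rw [← hPc]
  exact IsLocalization.AtPrime.comap_maximalIdeal O q.asIdeal

end Groth.Agent.FlatSlice
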