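import Mathlib
import Groth.Agent.FlatSlice.CMFibre
import Groth.Agent.FlatMorLib.FiberPoints

/-!
Slicing a Cohen–Macaulay morphism down to a quasi-finite one.
-/

namespace Groth.Agent.FlatSlice

open AlgebraicGeometry CategoryTheory RingTheory.Sequence Limits

universe u

theorem finite_residueFieldMap_comp {Z X S : Scheme.{u}} (i : Z ⟶ X) [IsPreimmersion i] (f : X ⟶ S)
    (z : Z) (x : X) (hz : i z = x) (h : (f.residueFieldMap x).hom.Finite) :
    ((i ≫ f).residueFieldMap z).hom.Finite := by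
  subst hz
  rw [Scheme.residueFieldMap_comp]
  refine RingHom.Finite.comp (RingHom.Finite.of_surjective _ fun a => ?_) h
  obtain ⟨a, rfl⟩ := Z.residue_surjective z a
  obtain ⟨b, rfl⟩ := i.stalkMap_surjective z a
  exact ⟨X.residue _ b, congr($(Scheme.residue_residueFieldMap i z).hom b)⟩

theorem locallyQuasiFinite_of_forall {X S : Scheme.{u}} (f : X ⟶ S) [LocallyOfFiniteType f]
    (h : ∀ x, f.QuasiFiniteAt x) : LocallyQuasiFinite f :=
  FlatMorLib.locallyQuasiFinite_of_forall_finite_residueFieldMap f fun x =>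
    (FlatMorLib.isClosed_singleton_asFiber_iff f x).1 ((h x).isClopen_singleton_asFiber (f := f)).1

theorem slice_quasiFinite {X S : Scheme.{u}} (f : X ⟶ S) [LocallyOfFinitePresentation f] (x : X)
    (hcm : MoreMor.IsCMAt f x) (hcl : IsClosed ({f.asFiber x} : Set ↑(f.fiber (f x)))) :
    ∃ (V : X.Opens) (Z : Scheme.{u}) (i : Z ⟶ (V : Scheme.{u})), Mor2.IsRegularClosedImmersion i ∧
      x ∈ Set.range ⇑(i ≫ V.ι) ∧ Flat (i ≫ V.ι ≫ f) ∧ LocallyOfFinitePresentation (i ≫ V.ι ≫ f) ∧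
      LocallyQuasiFinite (i ≫ V.ι ≫ f) ∧
      ∀ z : Z, f (V.ι (i z)) = f x → V.ι (i z) = x := by
  obtain ⟨hs, hmem, hreg, hrad⟩ := exists_cm_sequence f x hcm
  obtain ⟨V, hV, U, hU, e, hxU, l, hl, hsl⟩ := exists_sliced_open f x hcm.1 hs hreg
  letI : Algebra Γ(S, V) Γ(X, U) := (f.appLE V U e).hom.toAlgebra
  let mk := Ideal.Quotient.mk (Ideal.ofList l)
  let ι₀ := Spec.map (CommRingCat.ofHom mk) ≫ hU.fromSpec
  obtain ⟨hgflat, hglfp⟩ := flat_lfp_quotient f hV hU e l hsl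
  let g := Spec.map (CommRingCat.ofHom mk) ≫ hU.fromSpec ≫ f
  have hg : g = ι₀ ≫ f := (Category.assoc _ _ _).symm
  haveI : IsClosedImmersion (Spec.map (CommRingCat.ofHom mk)) :=
    IsClosedImmersion.spec_of_surjective _ Ideal.Quotient.mk_surjective
  haveI : IsPreimmersion ι₀ := inferInstance
  haveI : LocallyOfFinitePresentation (ι₀ ≫ f) := hg ▸ hglfp
  haveI : Flat (ι₀ ≫ f) := hg ▸ hgflat
  -- the point
  letI : Algebra Γ(X, U) (X.presheaf.stalk x) := X.presheaf.algebra_section_stalk ⟨x, hxU⟩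
  haveI : IsLocalization.AtPrime (X.presheaf.stalk x) (hU.primeIdealOf ⟨x, hxU⟩).asIdeal :=
    hU.isLocalization_stalk ⟨x, hxU⟩
  have hle : Ideal.ofList l ≤ (hU.primeIdealOf ⟨x, hxU⟩).asIdeal := Ideal.span_le.2 fun a ha => by
    by_contra hna
    exact hmem _ (hl ▸ List.mem_map.2 ⟨a, ha, rfl⟩)
      (IsLocalization.map_units _ (M := (hU.primeIdealOf ⟨x, hxU⟩).asIdeal.primeCompl) ⟨a, hna⟩)
  obtain ⟨z₀, hz₀⟩ : hU.primeIdealOf ⟨x, hxU⟩ ∈ Set.range (PrimeSpectrum.comap mk) := by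
    rw [range_comap_of_surjective _ _ Ideal.Quotient.mk_surjective, Ideal.mk_ker]
    exact (PrimeSpectrum.mem_zeroLocus _ _).2 hle
  have hix : ι₀ z₀ = x := by
    show hU.fromSpec (PrimeSpectrum.comap mk z₀) = x
    rw [hz₀]
    exact hU.fromSpec_primeIdealOf _
  -- quasi-finite at the point
  have hmax : ∀ w : Spec (CommRingCat.of (Γ(X, U) ⧸ Ideal.ofList l)),
      w ⤳ z₀ → f (ι₀ w) = f x → w = z₀ := fun w hw hfw => by
    refine ι₀.isEmbedding.injective (hix.symm ▸ ?_)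
    refine eq_of_specializes f x hV hU e hxU l hs hl hrad (PrimeSpectrum.comap mk w) ?_
      (show ι₀ w ⤳ x from hix ▸ hw.map ι₀.continuous) hfw
    intro a ha
    show mk a ∈ w.asIdeal
    rw [Ideal.Quotient.eq_zero_iff_mem.2 ha]
    exact zero_mem _
  have hqf : (ι₀ ≫ f).QuasiFiniteAt z₀ := by
    rw [FlatMorLib.quasiFiniteAt_iff_isClosed_and_maximal]
    refine ⟨(FlatMorLib.isClosed_singleton_asFiber_iff _ _).2
      (finite_residueFieldMap_comp ι₀ f z₀ x hix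
        ((FlatMorLib.isClosed_singleton_asFiber_iff f x).1 hcl)), fun x' hx' => ?_⟩
    apply ((ι₀ ≫ f).fiberι ((ι₀ ≫ f) z₀)).isEmbedding.injective
    rw [Scheme.Hom.fiberι_asFiber]
    have hsp := hx'.map ((ι₀ ≫ f).fiberι ((ι₀ ≫ f) z₀)).continuous
    rw [Scheme.Hom.fiberι_asFiber] at hsp
    refine hmax _ hsp ?_
    have : (ι₀ ≫ f).fiberι ((ι₀ ≫ f) z₀) x' ∈ Set.range ((ι₀ ≫ f).fiberι ((ι₀ ≫ f) z₀)) := ⟨x', rfl⟩
    rw [Scheme.Hom.range_fiberι] at this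
    refine (show f (ι₀ _) = (ι₀ ≫ f) z₀ from this).trans ?_
    rw [Scheme.Hom.comp_apply, hix]
  -- shrink
  obtain ⟨O₁, hO₁, hO₁'⟩ := ((ι₀ ≫ f).fiberι ((ι₀ ≫ f) z₀)).isEmbedding.isInducing.isOpen_iff.1
    (Scheme.Hom.quasiFiniteAt_iff_isOpen_singleton_asFiber.1 hqf)
  obtain ⟨O, hO, hOW⟩ := ι₀.isEmbedding.isInducing.isOpen_iff.1
    (hO₁.inter (ι₀ ≫ f).isOpen_quasiFiniteAt)
  have hzO : x ∈ O := by
    rw [← hix]
    show z₀ ∈ ι₀ ⁻¹' O
    rw [hOW]
    refine ⟨?_, hqf⟩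
    have : (ι₀ ≫ f).asFiber z₀ ∈ (ι₀ ≫ f).fiberι ((ι₀ ≫ f) z₀) ⁻¹' O₁ := hO₁'.symm ▸ rfl
    rwa [Set.mem_preimage, Scheme.Hom.fiberι_asFiber] at this
  obtain ⟨a, haO, hxa⟩ := hU.exists_basicOpen_le (V := ⟨O, hO⟩) ⟨x, hzO⟩ hxU
  let D := X.basicOpen a
  let ρ := X.presheaf.map (homOfLE (X.basicOpen_le a)).op
  let l' : List Γ(X, D) := l.map ρ
  have hl' : Ideal.ofList l' = (Ideal.ofList l).map ρ.hom := (Ideal.map_ofList _ _).symm
  letI : Algebra Γ(X, U) Γ(X, D) := ρ.hom.toAlgebra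
  haveI : IsLocalization.Away a Γ(X, D) := hU.isLocalization_basicOpen a
  have hlc : Ideal.ofList l ≤ (Ideal.ofList l').comap ρ.hom := hl' ▸ Ideal.le_comap_map
  letI := (Ideal.quotientMap (Ideal.ofList l') ρ.hom hlc).toAlgebra
  haveI : IsLocalization.Away (mk a) (Γ(X, D) ⧸ Ideal.ofList l') := by
    simp only [IsLocalization.Away, mk, ← Submonoid.map_powers]
    refine IsLocalization.of_surjective _ _ _ Ideal.Quotient.mk_surjective _
      Ideal.Quotient.mk_surjective ?_ ?_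
    · simp [RingHom.algebraMap_toAlgebra, Ideal.quotientMap_comp_mk]
    · simp only [Ideal.mk_ker, RingHom.algebraMap_toAlgebra, hl', le_refl]
  let j : Spec (CommRingCat.of (Γ(X, D) ⧸ Ideal.ofList l')) ⟶
      Spec (CommRingCat.of (Γ(X, U) ⧸ Ideal.ofList l)) :=
    Spec.map (CommRingCat.ofHom (Ideal.quotientMap (Ideal.ofList l') ρ.hom hlc))
  haveI : IsOpenImmersion j := IsOpenImmersion.of_isLocalization (mk a)
  have hreg' : IsWeaklyRegular Γ(X, D) l' := by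
    haveI : Module.Flat Γ(X, U) Γ(X, D) := IsLocalization.flat _ (Submonoid.powers a)
    exact hsl.isWeaklyRegular.of_flat
  have hD := hU.basicOpen a
  let i := Spec.map (CommRingCat.ofHom (Ideal.Quotient.mk (Ideal.ofList l'))) ≫ hD.isoSpec.inv
  have hi : i ≫ D.ι = j ≫ ι₀ := by
    show (Spec.map _ ≫ hD.isoSpec.inv) ≫ (X.basicOpen a).ι = _
    simp only [j, ι₀, Category.assoc, IsAffineOpen.isoSpec_inv_ι]
    rw [← IsAffineOpen.map_fromSpec hU hD (homOfLE (X.basicOpen_le a)).op, ← Category.assoc,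
      ← Spec.map_comp, ← Category.assoc, ← Spec.map_comp]
    rfl
  have hir : Mor2.IsRegularClosedImmersion i := isRegularClosedImmersion_specQuotient hD.isoSpec.symm l' hreg'
  have hW : ∀ z, j z ∈ O₁ ∧ (ι₀ ≫ f).QuasiFiniteAt (j z) := fun z => by
    have : ι₀ (j z) ∈ O := by
      rw [← Scheme.Hom.comp_apply, ← hi, Scheme.Hom.comp_apply]
      exact haO (i z).2
    exact (hOW ▸ this : j z ∈ O₁ ∩ {w | (ι₀ ≫ f).QuasiFiniteAt w})
  refine ⟨D, _, i, hir, ?_, ?_, ?_, ?_, fun z hz => ?_⟩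
  · rw [hi]
    have hz₀a : z₀ ∈ Set.range j := by
      rw [show Set.range j = (PrimeSpectrum.basicOpen (mk a) : Set (PrimeSpectrum _)) from
        PrimeSpectrum.localization_away_comap_range _ (mk a)]
      show mk a ∉ z₀.asIdeal
      intro hm
      have : a ∈ (hU.primeIdealOf ⟨x, hxU⟩).asIdeal := hz₀ ▸ hm
      have hu : IsUnit (X.presheaf.germ U x hxU a) := (X.mem_basicOpen a x hxU).1 hxa
      exact (IsLocalization.AtPrime.to_map_mem_maximal_iff (X.presheaf.stalk x)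
        (hU.primeIdealOf ⟨x, hxU⟩).asIdeal a inferInstance).2 this hu
    obtain ⟨z, hz⟩ := hz₀a
    exact ⟨z, by rw [Scheme.Hom.comp_apply, hz, hix]⟩
  · rw [← Category.assoc, hi, Category.assoc]
    infer_instance
  · rw [← Category.assoc, hi, Category.assoc]
    infer_instance
  · rw [← Category.assoc, hi, Category.assoc]
    exact locallyQuasiFinite_of_forall _ fun z =>
      Scheme.Hom.quasiFiniteAt_comp_iff_of_isOpenImmersion.2 (hW z).2
  · have e1 : D.ι (i z) = ι₀ (j z) := by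
      rw [← Scheme.Hom.comp_apply, hi, Scheme.Hom.comp_apply]
    rw [e1] at hz ⊢
    have : (ι₀ ≫ f) (j z) = (ι₀ ≫ f) z₀ := hz.trans (by rw [Scheme.Hom.comp_apply, hix])
    obtain ⟨w, hw⟩ : j z ∈ Set.range ((ι₀ ≫ f).fiberι ((ι₀ ≫ f) z₀)) := by
      rw [Scheme.Hom.range_fiberι]; exact this
    have hw1 : w ∈ (ι₀ ≫ f).fiberι ((ι₀ ≫ f) z₀) ⁻¹' O₁ := by
      show (ι₀ ≫ f).fiberι ((ι₀ ≫ f) z₀) w ∈ O₁
      rw [hw]; exact (hW z).1
    rw [hO₁', Set.mem_singleton_iff] at hw1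
    rw [hw1, Scheme.Hom.fiberι_asFiber] at hw
    rw [← hw, hix]

end Groth.Agent.FlatSlice
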